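import Mathlib
import Cfsg.Agent.Lib.Orth.Siegel

/-! Vectors of a given norm and isotropic vectors of a quadratic space over three elements. -/

set_option autoImplicit false

namespace CfsgLib.ThreeTrans.Classif.FromRefl

open QuadraticMap

variable {n : ℕ} (Q : QuadraticForm (ZMod 3) (Fin n → ZMod 3)) {c : ZMod 3}

local notation "V" => Fin n → ZMod 3

/-- Reflection in a vector `v` of norm `c`. -/
def rf (c : ZMod 3) (v x : V) : V := x - (c * polar Q v x) • v

variable {Q}

theorem three_cases : ∀ s : ZMod 3, s = 0 ∨ s = 1 ∨ s = -1 := by decide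

theorem qadd (x y : V) : Q (x + y) = Q x + Q y + polar Q x y := QuadraticMap.map_add ⇑Q x y

theorem qsmul (t : ZMod 3) (x : V) : Q (t • x) = t * t * Q x := by
  rw [QuadraticMap.map_smul, smul_eq_mul]

theorem qsub (x y : V) : Q (x - y) = Q x + Q y - polar Q x y := by
  rw [sub_eq_add_neg, qadd, QuadraticMap.map_neg, polar_neg_right]; ring

theorem bsmul_right (t : ZMod 3) (x y : V) : polar Q x (t • y) = t * polar Q x y := by
  rw [polar_smul_right, smul_eq_mul]

theorem bsmul_left (t : ZMod 3) (x y : V) : polar Q (t • x) y = t * polar Q x y := by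
  rw [polar_smul_left, smul_eq_mul]

theorem bcomm (x y : V) : polar Q x y = polar Q y x := polar_comm _ _ _

theorem bself (x : V) : polar Q x x = 2 * Q x := by
  rw [polar_self, nsmul_eq_mul, Nat.cast_ofNat]

theorem bzero (x : V) : polar Q x 0 = 0 := polar_zero_right _ x

theorem bself_ne (hc : c ≠ 0) {x : V} (hx : Q x = c) : polar Q x x ≠ 0 := by
  rw [bself, hx]
  exact mul_ne_zero (by decide) hc

theorem ne_zero_of_norm (hc : c ≠ 0) {x : V} (hx : Q x = c) : x ≠ 0 := fun h => hc (by
  rw [← hx, h, QuadraticMap.map_zero])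

theorem rf_right (v x z : V) :
    polar Q z (rf Q c v x) = polar Q z x - c * polar Q v x * polar Q z v := by
  rw [rf, polar_sub_right, bsmul_right]

theorem rf_symm (v x z : V) : polar Q (rf Q c v x) z = polar Q x (rf Q c v z) := by
  rw [bcomm, rf_right, rf_right, bcomm x z, bcomm z v, bcomm x v]; ring

theorem rf_neg (v x : V) : rf Q c (-v) x = rf Q c v x := by
  rw [rf, rf, polar_neg_left, mul_neg, neg_smul, smul_neg, neg_neg]

theorem rf_neg_arg (v x : V) : rf Q c v (-x) = -rf Q c v x := by
  rw [rf, rf, polar_neg_right, mul_neg, neg_smul]; module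

theorem rf_of_perp {v x : V} (h : polar Q v x = 0) : rf Q c v x = x := by
  rw [rf, h, mul_zero, zero_smul, sub_zero]

theorem q_rf (hc : c ≠ 0) {v : V} (hv : Q v = c) (x : V) : Q (rf Q c v x) = Q x := by
  rw [rf, qsub, qsmul, hv, bsmul_right, bcomm x v]
  have key : ∀ c b q : ZMod 3, c ≠ 0 → q + c * b * (c * b) * c - c * b * b = q := by decide
  exact key _ _ _ hc

theorem rf_self (hc : c ≠ 0) {v : V} (hv : Q v = c) : rf Q c v v = -v := by
  rw [rf, bself, hv]
  have key : ∀ c : ZMod 3, c ≠ 0 → c * (2 * c) = 2 := by decide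
  rw [key c hc]; module

theorem rf_rf (hc : c ≠ 0) {v : V} (hv : Q v = c) (x : V) : rf Q c v (rf Q c v x) = x := by
  have h : polar Q v (rf Q c v x) = -polar Q v x := by
    rw [rf_right, bself, hv]
    have key : ∀ c b : ZMod 3, c ≠ 0 → b - c * b * (2 * c) = -b := by decide
    exact key _ _ hc
  conv_lhs => rw [rf, h, rf]
  module

theorem rf_inj (hc : c ≠ 0) {v : V} (hv : Q v = c) {x y : V}
    (h : rf Q c v x = rf Q c v y ∨ rf Q c v x = -rf Q c v y) : x = y ∨ x = -y := by
  rcases h with h | h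
  · exact Or.inl (by rw [← rf_rf hc hv x, h, rf_rf hc hv])
  · exact Or.inr (by rw [← rf_rf hc hv x, h, rf_neg_arg, rf_rf hc hv])

theorem q_trans {x r : V} (hr : Q r = 0) (t : ZMod 3) : Q (x + t • r) = Q x + t * polar Q x r := by
  rw [qadd, qsmul, hr, bsmul_right]; ring

theorem b_trans_left (x r z : V) (t : ZMod 3) :
    polar Q (x + t • r) z = polar Q x z + t * polar Q r z := by
  rw [polar_add_left, bsmul_left]

theorem b_trans_right (x r z : V) (t : ZMod 3) :
    polar Q z (x + t • r) = polar Q z x + t * polar Q z r := by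
  rw [polar_add_right, bsmul_right]

theorem b_iso {r : V} (hr : Q r = 0) : polar Q r r = 0 := by rw [bself, hr, mul_zero]

/-- The difference of two isotropic vectors of the right inner product reflects one to the other. -/
theorem diff_norm (hc : c ≠ 0) {r s : V} (hr : Q r = 0) (hs : Q s = 0) (h : polar Q r s = -c) :
    Q (r - s) = c ∧ polar Q (r - s) r = c ∧ rf Q c (r - s) r = s := by
  have h1 : polar Q (r - s) r = c := by
    rw [polar_sub_left, b_iso hr, bcomm s r, h, sub_neg_eq_add, zero_add]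
  refine ⟨by rw [qsub, hr, hs, h, zero_add, zero_sub, neg_neg], h1, ?_⟩
  have key : ∀ c : ZMod 3, c ≠ 0 → c * c = 1 := by decide
  rw [rf, h1, key c hc, one_smul, sub_sub_cancel]

section Existence

variable (hQ : (QuadraticMap.polarBilin Q).Nondegenerate)
include hQ

theorem exists_val (S : Submodule (ZMod 3) V) {v : V} (h : v ∉ S) :
    ∃ a, (∀ u ∈ S, polar Q u a = 0) ∧ polar Q v a = 1 := by
  by_contra hc
  push Not at hc
  apply h
  rw [← LinearMap.BilinForm.orthogonal_orthogonal hQ (CfsgLib.Orth.polarBilin_isRefl hQ) S,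
    LinearMap.BilinForm.mem_orthogonal_iff]
  intro a ha
  have h1 : ∀ u ∈ S, polar Q u a = 0 := LinearMap.BilinForm.mem_orthogonal_iff.1 ha
  change polar Q a v = 0
  rw [bcomm]
  by_contra h2
  refine hc ((polar Q v a)⁻¹ • a) (fun u hu => ?_) ?_
  · rw [bsmul_right, h1 u hu, mul_zero]
  · rw [bsmul_right, inv_mul_cancel₀ h2]

omit hQ in
theorem mem_line {r s : V} (t : ZMod 3) (hs : s = t • r) (hs0 : s ≠ 0) : s = r ∨ s = -r := by
  rcases three_cases t with rfl | rfl | rfl
  · exact absurd (hs.trans (zero_smul _ r)) hs0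
  · exact Or.inl (hs.trans (one_smul _ r))
  · exact Or.inr (by rw [hs, neg_smul, one_smul])

omit hQ in
theorem not_mem_line {r s : V} (hs : s ≠ 0) (h1 : s ≠ r) (h2 : s ≠ -r) :
    s ∉ Submodule.span (ZMod 3) ({r} : Set V) := fun h => by
  obtain ⟨t, ht⟩ := Submodule.mem_span_singleton.1 h
  exact (mem_line t ht.symm hs).elim h1 h2

/-- `s` is not in the span of `r` and orthogonal vectors of norm `c`. -/
theorem exists_norm_pairing (hc : c ≠ 0) {u v r s : V} (hu : Q u = c) (hv : v = 0 ∨ Q v = c)
    (huv : polar Q u v = 0) (hs : Q s = 0) (hur : polar Q u r = 0)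
    (hus : polar Q u s = 0) (hvr : polar Q v r = 0) (hvs : polar Q v s = 0)
    (hrs : polar Q r s = 0) (hind : s ∉ Submodule.span (ZMod 3) ({r} : Set V)) :
    ∃ x, Q x = c ∧ polar Q u x = 0 ∧ polar Q v x = 0 ∧ polar Q r x = 0 ∧ polar Q s x = 1 := by
  have hnot : s ∉ Submodule.span (ZMod 3) ({u} : Set V) ⊔ Submodule.span (ZMod 3) ({v} : Set V) ⊔
      Submodule.span (ZMod 3) ({r} : Set V) := by
    intro h
    simp only [Submodule.mem_sup, Submodule.mem_span_singleton] at h
    obtain ⟨_, ⟨_, ⟨α, rfl⟩, _, ⟨β, rfl⟩, rfl⟩, _, ⟨γ, rfl⟩, rfl⟩ := h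
    apply hind
    have h1 := hus
    simp only [polar_add_right, bsmul_right, huv, hur, mul_zero, add_zero] at h1
    rw [(mul_eq_zero.1 h1).resolve_right (bself_ne hc hu), zero_smul, zero_add]
    rcases hv with rfl | hv
    · rw [smul_zero, zero_add]
      exact Submodule.smul_mem _ _ (Submodule.mem_span_singleton_self r)
    · have h2 := hvs
      simp only [polar_add_right, bsmul_right, bcomm v u, huv, hvr, mul_zero, add_zero, zero_add] at h2
      rw [(mul_eq_zero.1 h2).resolve_right (bself_ne hc hv), zero_smul, zero_add]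
      exact Submodule.smul_mem _ _ (Submodule.mem_span_singleton_self r)
  obtain ⟨a, ha, hsa⟩ := exists_val hQ _ hnot
  refine ⟨a + (c - Q a) • s, ?_, ?_, ?_, ?_, ?_⟩
  · rw [q_trans hs, bcomm a s, hsa]; ring
  · rw [b_trans_right, hus, ha u (Submodule.mem_sup_left (Submodule.mem_sup_left
      (Submodule.mem_span_singleton_self u))), mul_zero, add_zero]
  · rw [b_trans_right, hvs, ha v (Submodule.mem_sup_left (Submodule.mem_sup_right
      (Submodule.mem_span_singleton_self v))), mul_zero, add_zero]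
  · rw [b_trans_right, hrs, ha r (Submodule.mem_sup_right (Submodule.mem_span_singleton_self r)),
      mul_zero, add_zero]
  · rw [b_trans_right, b_iso hs, hsa, mul_zero, add_zero]

/-- An isotropic vector with prescribed inner products against two independent orthogonal ones. -/
theorem exists_iso_two {r s : V} (hr : Q r = 0) (hrs : polar Q r s = 0)
    (hr' : r ∉ Submodule.span (ZMod 3) ({s} : Set V))
    (hs' : s ∉ Submodule.span (ZMod 3) ({r} : Set V)) {a b : ZMod 3} (ha : a ≠ 0) :
    ∃ x, Q x = 0 ∧ polar Q r x = a ∧ polar Q s x = b := by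
  obtain ⟨p, hp, hp1⟩ := exists_val hQ _ hr'
  obtain ⟨q, hq, hq1⟩ := exists_val hQ _ hs'
  set z := a • p + b • q
  have hzr : polar Q r z = a := by
    rw [polar_add_right, bsmul_right, bsmul_right, hp1, hq r (Submodule.mem_span_singleton_self r)]
    ring
  have hzs : polar Q s z = b := by
    rw [polar_add_right, bsmul_right, bsmul_right, hq1, hp s (Submodule.mem_span_singleton_self s)]
    ring
  refine ⟨z + (-Q z * a⁻¹) • r, ?_, ?_, ?_⟩
  · rw [q_trans hr, bcomm z r, hzr, mul_assoc, inv_mul_cancel₀ ha]; ring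
  · rw [b_trans_right, b_iso hr, hzr, mul_zero, add_zero]
  · rw [b_trans_right, bcomm s r, hrs, hzs, mul_zero, add_zero]

/-- An isotropic vector orthogonal to `u` and to neither of `r`, `s`. -/
theorem exists_iso_perp {u r s : V} (hc : c ≠ 0) (hu : u = 0 ∨ Q u = c) (hr : Q r = 0)
    (hur : polar Q u r = 0) (hus : polar Q u s = 0) (hrs : polar Q r s = 0)
    (hr' : r ∉ Submodule.span (ZMod 3) ({s} : Set V))
    (hs' : s ∉ Submodule.span (ZMod 3) ({r} : Set V)) :
    ∃ x, Q x = 0 ∧ polar Q u x = 0 ∧ polar Q r x ≠ 0 ∧ polar Q s x ≠ 0 := by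
  have hout : ∀ {p q : V}, polar Q u p = 0 → polar Q u q = 0 →
      p ∉ Submodule.span (ZMod 3) ({q} : Set V) →
      p ∉ Submodule.span (ZMod 3) ({u} : Set V) ⊔ Submodule.span (ZMod 3) ({q} : Set V) := by
    intro p q hp hq hpq h
    simp only [Submodule.mem_sup, Submodule.mem_span_singleton] at h
    obtain ⟨_, ⟨α, rfl⟩, _, ⟨β, rfl⟩, rfl⟩ := h
    apply hpq
    rcases hu with rfl | hu
    · rw [smul_zero, zero_add]
      exact Submodule.smul_mem _ _ (Submodule.mem_span_singleton_self q)
    · simp only [polar_add_right, bsmul_right, hq, mul_zero, add_zero] at hp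
      rw [(mul_eq_zero.1 hp).resolve_right (bself_ne hc hu), zero_smul, zero_add]
      exact Submodule.smul_mem _ _ (Submodule.mem_span_singleton_self q)
  obtain ⟨p, hp, hp1⟩ := exists_val hQ _ (hout hur hus hr')
  obtain ⟨q, hq, hq1⟩ := exists_val hQ _ (hout hus hur hs')
  have hzu : polar Q u (p + q) = 0 := by
    rw [polar_add_right, hp u (Submodule.mem_sup_left (Submodule.mem_span_singleton_self u)),
      hq u (Submodule.mem_sup_left (Submodule.mem_span_singleton_self u)), add_zero]
  have hzr : polar Q r (p + q) = 1 := by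
    rw [polar_add_right, hp1, hq r (Submodule.mem_sup_right (Submodule.mem_span_singleton_self r)),
      add_zero]
  have hzs : polar Q s (p + q) = 1 := by
    rw [polar_add_right, hq1, hp s (Submodule.mem_sup_right (Submodule.mem_span_singleton_self s)),
      zero_add]
  refine ⟨p + q + (-Q (p + q)) • r, ?_, ?_, ?_, ?_⟩
  · rw [q_trans hr, bcomm (p + q) r, hzr]; ring
  · rw [b_trans_right, hzu, hur, mul_zero, add_zero]
  · rw [b_trans_right, hzr, b_iso hr, mul_zero, add_zero]; exact one_ne_zero
  · rw [b_trans_right, hzs, bcomm s r, hrs, mul_zero, add_zero]; exact one_ne_zero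

/-- An isotropic vector orthogonal to none of `r`, `s`, `t` when `r` is orthogonal to the others. -/
theorem exists_iso_three {r s t : V} (hr : Q r = 0) (hs : Q s = 0) (ht : Q t = 0) (hr0 : r ≠ 0)
    (hrs : polar Q r s = 0) (hrt : polar Q r t = 0) (hst : polar Q s t ≠ 0) :
    ∃ x, Q x = 0 ∧ polar Q r x ≠ 0 ∧ polar Q s x ≠ 0 ∧ polar Q t x ≠ 0 := by
  have hout : r ∉ Submodule.span (ZMod 3) ({s} : Set V) ⊔ Submodule.span (ZMod 3) ({t} : Set V) := by
    intro h
    simp only [Submodule.mem_sup, Submodule.mem_span_singleton] at h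
    obtain ⟨_, ⟨α, rfl⟩, _, ⟨β, rfl⟩, rfl⟩ := h
    have h1 := hrs
    have h2 := hrt
    simp only [polar_add_left, bsmul_left, b_iso hs, mul_zero, zero_add] at h1
    simp only [polar_add_left, bsmul_left, b_iso ht, mul_zero, add_zero] at h2
    rw [bcomm t s] at h1
    rw [(mul_eq_zero.1 h1).resolve_right hst, (mul_eq_zero.1 h2).resolve_right hst] at hr0
    simp at hr0
  obtain ⟨p, hp, hp1⟩ := exists_val hQ _ hout
  have hps : polar Q p s = 0 := by
    rw [bcomm]; exact hp s (Submodule.mem_sup_left (Submodule.mem_span_singleton_self s))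
  have hpt : polar Q p t = 0 := by
    rw [bcomm]; exact hp t (Submodule.mem_sup_right (Submodule.mem_span_singleton_self t))
  have hr1 : polar Q r (p + s + t) = 1 := by
    rw [polar_add_right, polar_add_right, hp1, hrs, hrt, add_zero, add_zero]
  have hs1 : polar Q s (p + s + t) = polar Q s t := by
    rw [polar_add_right, polar_add_right, bcomm s p, hps, b_iso hs, zero_add, zero_add]
  have ht1 : polar Q t (p + s + t) = polar Q s t := by
    rw [polar_add_right, polar_add_right, bcomm t p, hpt, b_iso ht, zero_add, add_zero, bcomm]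
  refine ⟨p + s + t + (-Q (p + s + t)) • r, ?_, ?_, ?_, ?_⟩
  · rw [q_trans hr, bcomm (p + s + t) r, hr1]; ring
  · rw [b_trans_right, hr1, b_iso hr, mul_zero, add_zero]; exact one_ne_zero
  · rw [b_trans_right, hs1, bcomm s r, hrs, mul_zero, add_zero]; exact hst
  · rw [b_trans_right, ht1, bcomm t r, hrt, mul_zero, add_zero]; exact hst

/-- A value is taken on the orthogonal of a subspace which is large against its radical. -/
theorem exists_perp_norm (hc : c ≠ 0) (S : Submodule (ZMod 3) V) {j : ℕ}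
    (hj : Module.finrank (ZMod 3) ↥(S ⊓ LinearMap.BilinForm.orthogonal Q.polarBilin S) ≤ j)
    (hn : Module.finrank (ZMod 3) ↥S + j + 2 ≤ n) :
    ∃ x, Q x = c ∧ ∀ u ∈ S, polar Q u x = 0 := by
  have first : ∀ T : Submodule (ZMod 3) V,
      Module.finrank (ZMod 3) ↥(T ⊓ LinearMap.BilinForm.orthogonal Q.polarBilin T) ≤ j →
      Module.finrank (ZMod 3) ↥T + j + 1 ≤ n →
      ∃ y, Q y ≠ 0 ∧ ∀ u ∈ T, polar Q u y = 0 := by
    intro T hT hTn
    by_contra! hall
    have hle : LinearMap.BilinForm.orthogonal Q.polarBilin T ≤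
        T ⊓ LinearMap.BilinForm.orthogonal Q.polarBilin T := by
      refine le_inf (fun x hx => ?_) le_rfl
      rw [← LinearMap.BilinForm.orthogonal_orthogonal hQ (CfsgLib.Orth.polarBilin_isRefl hQ) T,
        LinearMap.BilinForm.mem_orthogonal_iff]
      intro z hz
      have iso : ∀ w ∈ LinearMap.BilinForm.orthogonal Q.polarBilin T, Q w = 0 := fun w hw => by
        by_contra h0
        obtain ⟨u, hu, hne⟩ := hall w h0
        exact hne (LinearMap.BilinForm.mem_orthogonal_iff.1 hw u hu)
      change polar Q z x = 0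
      rw [polar, iso _ (Submodule.add_mem _ hz hx), iso _ hz, iso _ hx, sub_zero, sub_zero]
    have h := Submodule.finrank_mono hle
    rw [LinearMap.BilinForm.finrank_orthogonal hQ, Module.finrank_fintype_fun_eq_card,
      Fintype.card_fin] at h
    omega
  obtain ⟨y, hy, hyS⟩ := first S hj (by omega)
  have hy' : polar Q y y ≠ 0 := by
    rw [bself]; exact mul_ne_zero (by decide) hy
  set T := S ⊔ Submodule.span (ZMod 3) ({y} : Set V)
  have hrad : T ⊓ LinearMap.BilinForm.orthogonal Q.polarBilin T ≤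
      S ⊓ LinearMap.BilinForm.orthogonal Q.polarBilin S := by
    rintro z ⟨hzT, hzo⟩
    rw [SetLike.mem_coe, LinearMap.BilinForm.mem_orthogonal_iff] at hzo
    obtain ⟨s, hs, w, hw, rfl⟩ := Submodule.mem_sup.1 hzT
    obtain ⟨t, rfl⟩ := Submodule.mem_span_singleton.1 hw
    have h1 : polar Q y (s + t • y) = 0 :=
      hzo y (Submodule.mem_sup_right (Submodule.mem_span_singleton_self y))
    rw [b_trans_right, bcomm y s, hyS s hs, zero_add] at h1
    rw [(mul_eq_zero.1 h1).resolve_right hy', zero_smul, add_zero] at hzo ⊢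
    exact ⟨hs, LinearMap.BilinForm.mem_orthogonal_iff.2 fun u hu => hzo u (Submodule.mem_sup_left hu)⟩
  have hTn : Module.finrank (ZMod 3) ↥T + j + 1 ≤ n := by
    have h := Submodule.finrank_add_le_finrank_add_finrank S (Submodule.span (ZMod 3) ({y} : Set V))
    have h0 : y ≠ 0 := fun h0 => hy (by rw [h0, QuadraticMap.map_zero])
    rw [finrank_span_singleton h0] at h
    change Module.finrank (ZMod 3) ↥(S ⊔ Submodule.span (ZMod 3) ({y} : Set V)) + j + 1 ≤ n
    omega
  obtain ⟨y', hy'Q, hyT⟩ := first T ((Submodule.finrank_mono hrad).trans hj) hTn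
  have hyy : polar Q y y' = 0 := hyT y (Submodule.mem_sup_right (Submodule.mem_span_singleton_self y))
  have key : ∀ c a b : ZMod 3, c ≠ 0 → a ≠ 0 → b ≠ 0 → a = c ∨ b = c ∨ a + b = c := by decide
  rcases key c _ _ hc hy hy'Q with h | h | h
  · exact ⟨y, h, hyS⟩
  · exact ⟨y', h, fun u hu => hyT u (Submodule.mem_sup_left hu)⟩
  · refine ⟨y + y', by rw [qadd, hyy, h, add_zero], fun u hu => ?_⟩
    rw [polar_add_right, hyS u hu, hyT u (Submodule.mem_sup_left hu), add_zero]

end Existence

end CfsgLib.ThreeTrans.Classif.FromRefl
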