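import Mathlib
import Cfsg.Agent.Lib.ThreeTrans.Classif.Points
import Cfsg.Agent.Lib.ThreeTrans.Classif.FromRefl.Geometry

/-! Point models over three elements: the members orthogonal to given vectors. -/

set_option autoImplicit false

namespace CfsgLib.ThreeTrans.Classif.FromRefl

open QuadraticMap
open CfsgLib.ThreeTrans.LocalSymThree (nbr)

universe v

variable {Y : Type v} [Group Y] {E : Set Y} {n : ℕ}
  {Q : QuadraticForm (ZMod 3) (Fin n → ZMod 3)} {c : ZMod 3} {ψ : Y → Fin n → ZMod 3}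

local notation "V" => Fin n → ZMod 3

theorem finite_points (hE : ReflPts E Q c ψ) : E.Finite :=
  Set.Finite.of_finite_image (Set.toFinite _) fun a ha b hb h => hE.inj a ha b hb (Or.inl h)

theorem mem_nbr_iff (hE : ReflPts E Q c ψ) {a e : Y} (ha : a ∈ E) :
    e ∈ nbr E a ↔ e ∈ E ∧ polar Q (ψ a) (ψ e) = 0 := by
  constructor
  · rintro ⟨he, hne, hc⟩
    exact ⟨he, ((hE.comm a ha e he).1 hc).resolve_left fun h => hne h.symm⟩
  · rintro ⟨he, h⟩
    refine ⟨he, ?_, (hE.comm a ha e he).2 (Or.inr h)⟩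
    rintro rfl
    exact bself_ne hE.ne (hE.norm _ he) h

theorem conj_rf (hE : ReflPts E Q c ψ) {a b : Y} (ha : a ∈ E) (hb : b ∈ E) :
    ψ (a * b * a) = rf Q c (ψ a) (ψ b) ∨ ψ (a * b * a) = -rf Q c (ψ a) (ψ b) := by
  have hcc : ∀ c : ZMod 3, c ≠ 0 → c * c = 1 := by decide
  have key : ∀ x : ZMod 3, x / c = c * x := fun x => by
    rw [div_eq_mul_inv, inv_eq_of_mul_eq_one_right (hcc c hE.ne), mul_comm]
  have h := hE.conj a ha b hb
  dsimp only at h
  rw [key] at h
  exact h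

theorem polar_zero_iff {x z w : V} (h : x = z ∨ x = -z) : polar Q x w = 0 ↔ polar Q z w = 0 := by
  rcases h with rfl | rfl
  · rfl
  · rw [polar_neg_left, neg_eq_zero]

theorem polar_zero_iff' {x z w : V} (h : x = z ∨ x = -z) : polar Q w x = 0 ↔ polar Q w z = 0 := by
  rw [bcomm w x, bcomm w z, polar_zero_iff h]

theorem exists_point (hE : ReflPts E Q c ψ) {z : V} (hz : Q z = c) :
    ∃ e ∈ E, (ψ e = z ∨ ψ e = -z) ∧ ∀ w, (polar Q (ψ e) w = 0 ↔ polar Q z w = 0) := by
  obtain ⟨e, he, h⟩ := hE.surj z hz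
  exact ⟨e, he, h, fun w => polar_zero_iff h⟩

theorem ne_of_not_mem {r s : V} (h : s ∉ Submodule.span (ZMod 3) ({r} : Set V)) : s ≠ 0 :=
  fun h0 => h (h0 ▸ Submodule.zero_mem _)

theorem not_mem_symm {r s : V} (hr : r ≠ 0) (h : s ∉ Submodule.span (ZMod 3) ({r} : Set V)) :
    r ∉ Submodule.span (ZMod 3) ({s} : Set V) := by
  refine not_mem_line hr (fun e => h ?_) (fun e => h ?_)
  · rw [← e]; exact Submodule.mem_span_singleton_self r
  · rw [show s = -r by rw [e, neg_neg]]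
    exact Submodule.neg_mem _ (Submodule.mem_span_singleton_self r)

theorem of_mem_line {r s : V} (hs : s ≠ 0) (h : s ∈ Submodule.span (ZMod 3) ({r} : Set V)) :
    s = r ∨ s = -r := by
  obtain ⟨t, ht⟩ := Submodule.mem_span_singleton.1 h
  exact mem_line t ht.symm hs

variable (hn : 5 ≤ n)
include hn

/-- Two orthogonal vectors of norm `c` orthogonal to an isotropic one, and one more to a given one. -/
theorem exists_perp_pair (hQ : (QuadraticMap.polarBilin Q).Nondegenerate) (hc : c ≠ 0) {r : V}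
    (hr0 : r ≠ 0) : ∃ x y, Q x = c ∧ Q y = c ∧ polar Q x y = 0 ∧
      polar Q r x = 0 ∧ polar Q r y = 0 := by
  have h2 : (2 : ZMod 3) ≠ 0 := by decide
  have hS : Module.finrank (ZMod 3) ↥(Submodule.span (ZMod 3) ({r} : Set V)) ≤ 1 := by
    rw [finrank_span_singleton hr0]
  obtain ⟨x, hx, hxr⟩ := exists_perp_norm hQ hc (Submodule.span (ZMod 3) ({r} : Set V)) (j := 1)
    ((Submodule.finrank_mono inf_le_left).trans hS) (by omega)
  have hrx := hxr r (Submodule.mem_span_singleton_self r)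
  obtain ⟨y, hry, hxy, hy⟩ := CfsgLib.Orth.exists_ortho_value hQ h2 (by simpa using hn) hr0
    (show Q x ≠ 0 by rwa [hx]) hrx c
  exact ⟨x, y, hx, hy, hxy, hrx, hry⟩

theorem exists_perp_one (hQ : (QuadraticMap.polarBilin Q).Nondegenerate) (hc : c ≠ 0) {u r : V}
    (hu : Q u = c) (hr0 : r ≠ 0) (hur : polar Q u r = 0) :
    ∃ z, Q z = c ∧ polar Q u z = 0 ∧ polar Q r z = 0 := by
  obtain ⟨z, hrz, huz, hz⟩ := CfsgLib.Orth.exists_ortho_value hQ (by decide) (by simpa using hn) hr0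
    (show Q u ≠ 0 by rwa [hu]) (by rw [bcomm]; exact hur) c
  exact ⟨z, hz, huz, hrz⟩

/-- Isotropic vectors with the same members orthogonal to them agree up to sign. -/
theorem iso_eq_of_perp (hE : ReflPts E Q c ψ) {r s : V} (hr0 : r ≠ 0) (hr : Q r = 0) (hs0 : s ≠ 0)
    (hs : Q s = 0) (h : ∀ e ∈ E, polar Q (ψ e) r = 0 → polar Q (ψ e) s = 0) : s = r ∨ s = -r := by
  obtain ⟨x, y, hx, hy, hxy, hrx, hry⟩ := exists_perp_pair hn hE.nondeg hE.ne hr0
  have hperp : ∀ z, Q z = c → polar Q z r = 0 → polar Q z s = 0 := fun z hz hzr => by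
    obtain ⟨e, he, -, hw⟩ := exists_point hE hz
    exact (hw s).1 (h e he ((hw r).2 hzr))
  have hxr : polar Q x r = 0 := by rw [bcomm]; exact hrx
  have hxs := hperp x hx hxr
  have hrs : polar Q r s = 0 := by
    have h1 := hperp (x + (1 : ZMod 3) • r) (by rw [q_trans hr, hxr, hx]; ring)
      (by rw [b_trans_left, hxr, b_iso hr]; ring)
    rwa [b_trans_left, hxs, zero_add, one_mul] at h1
  by_contra hno
  push Not at hno
  obtain ⟨z, hz, -, hxz, hrz, hsz⟩ := exists_norm_pairing hE.nondeg hE.ne hx (v := 0) (Or.inl rfl)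
    (bzero x) hs hxr hxs (by rw [bcomm]; exact bzero r) (by rw [bcomm]; exact bzero s) hrs
    (not_mem_line hs0 hno.1 hno.2)
  have h1 := hperp z hz (by rw [bcomm]; exact hrz)
  rw [bcomm, hsz] at h1
  exact one_ne_zero h1

end CfsgLib.ThreeTrans.Classif.FromRefl
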