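import Mathlib
import Cfsg.Agent.Lib.ThreeTrans.Classif.Counting
import Cfsg.Agent.Lib.ThreeTrans.Classif.FromRefl.Points

/-!
The members not commuting with one member, over the isotropic vectors of the class one level down:
two over each point, and commuting between them is read off from the vectors.
-/

set_option autoImplicit false

namespace CfsgLib.ThreeTrans.Classif.FromRefl

open QuadraticMap
open CfsgLib.ThreeTrans
open CfsgLib.ThreeTrans.LocalSymThree (nbr nbr_symm)

universe u v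

variable {G : Type u} [Group G] {D : Set G} {d : G} {Y : Type v} [Group Y] {E : Set Y}
  {f : G → Y} {n : ℕ} {Q : QuadraticForm (ZMod 3) (Fin n → ZMod 3)} {c : ZMod 3}
  {ψ : Y → Fin n → ZMod 3} {ρ : G → Fin n → ZMod 3}

local notation "V" => Fin n → ZMod 3

theorem not_commute_conj {D : Set G} (hc : ConjClosed D) {a c : G} (ha : a ∈ D) (hcD : c ∈ D)
    (hac : ¬ Commute a c) : ¬ Commute a (a * c * a) ∧ ¬ Commute c (a * c * a) := by
  have hs := hc.set
  have one : ∀ {a c : G}, a ∈ D → c ∈ D → ¬ Commute a c → ¬ Commute a (a * c * a) := by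
    intro a c ha hcD hac h
    refine hac ?_
    have e : a * c * a * a = a * (a * c * a) := h.eq.symm
    rw [mul_assoc (a * c), mul_self hs ha, mul_one, mul_assoc a c a, mul_self_mul hs ha] at e
    exact e
  refine ⟨one ha hcD hac, ?_⟩
  rw [braid hs ha hcD hac]
  exact one hcD ha fun h => hac h.symm

/-- The class one level down is one of reflections, and each member not commuting with `d` sees there
the members orthogonal to an isotropic vector. -/
structure Based (D : Set G) (d : G) (f : G → Y) (E : Set Y)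
    (Q : QuadraticForm (ZMod 3) (Fin n → ZMod 3)) (c : ZMod 3) (ψ : Y → Fin n → ZMod 3)
    (ρ : G → Fin n → ZMod 3) : Prop where
  good : Good D
  chart : Chart D d f E
  pts : ReflPts E Q c ψ
  five : 5 ≤ n
  rho : ∀ y ∈ far D d, ρ y ≠ 0 ∧ Q (ρ y) = 0 ∧
    ∀ a ∈ nbr D d, (Commute a y ↔ polar Q (ψ (f a)) (ρ y) = 0)

variable (L : Based D d f E Q c ψ ρ)
include L

theorem Based.closed : ConjClosed D := L.good.set.hD.closed

theorem Based.norm {a : G} (ha : a ∈ nbr D d) : Q (ψ (f a)) = c :=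
  L.pts.norm _ (L.chart.bij.mapsTo ha)

theorem Based.vinj {a b : G} (ha : a ∈ nbr D d) (hb : b ∈ nbr D d)
    (h : ψ (f a) = ψ (f b) ∨ ψ (f a) = -ψ (f b)) : a = b :=
  L.chart.bij.injOn ha hb (L.pts.inj _ (L.chart.bij.mapsTo ha) _ (L.chart.bij.mapsTo hb) h)

theorem Based.vsurj {z : V} (hz : Q z = c) :
    ∃ a ∈ nbr D d, (ψ (f a) = z ∨ ψ (f a) = -z) ∧
      ∀ w, (polar Q (ψ (f a)) w = 0 ↔ polar Q z w = 0) := by
  obtain ⟨e, he, h, hw⟩ := exists_point L.pts hz
  obtain ⟨a, ha, rfl⟩ := L.chart.bij.surjOn he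
  exact ⟨a, ha, h, hw⟩

theorem Based.vcomm {a b : G} (ha : a ∈ nbr D d) (hb : b ∈ nbr D d) :
    Commute a b ↔ a = b ∨ polar Q (ψ (f a)) (ψ (f b)) = 0 := by
  rw [← L.chart.comm a ha b hb, L.pts.comm _ (L.chart.bij.mapsTo ha) _ (L.chart.bij.mapsTo hb)]
  exact or_congr ⟨fun h => L.chart.bij.injOn ha hb h, fun h => h ▸ rfl⟩ Iff.rfl

theorem Based.vconj {a b : G} (ha : a ∈ nbr D d) (hb : b ∈ nbr D d) :
    ψ (f (a * b * a)) = rf Q c (ψ (f a)) (ψ (f b)) ∨
      ψ (f (a * b * a)) = -rf Q c (ψ (f a)) (ψ (f b)) := by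
  rw [L.chart.conj a ha b hb]
  exact conj_rf L.pts (L.chart.bij.mapsTo ha) (L.chart.bij.mapsTo hb)

theorem Based.far_conj {a y : G} (ha : a ∈ nbr D d) (hy : y ∈ far D d) :
    a * y * a ∈ far D d := by
  refine ⟨conj_mem_left L.closed ha.1 hy.1, fun h => hy.2 ?_⟩
  have e : a * d * a⁻¹ = d := by rw [← ha.2.2.eq, mul_inv_cancel_right]
  rw [show a * y * a = a * y * a⁻¹ by rw [inv_eq L.closed.set ha.1]] at h
  nth_rw 1 [← e] at h
  exact (commute_conj_iff a d y).1 h

theorem Based.far_flip {y : G} (hy : y ∈ far D d) : d * y * d ∈ far D d :=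
  ⟨conj_mem_left L.closed L.chart.mem hy.1, (not_commute_conj L.closed L.chart.mem hy.1 hy.2).1⟩

theorem Based.flip_flip (y : G) : d * (d * y * d) * d = y := by
  simp [mul_assoc, mul_self L.closed.set L.chart.mem, mul_self_mul L.closed.set L.chart.mem]

theorem Based.flip_ne {y : G} (hy : y ∈ far D d) : d * y * d ≠ y := fun h =>
  (not_commute_conj L.closed L.chart.mem hy.1 hy.2).2 (by rw [h])

theorem Based.iso_eq {r s : V} (hr0 : r ≠ 0) (hr : Q r = 0) (hs0 : s ≠ 0) (hs : Q s = 0)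
    (h : ∀ a ∈ nbr D d, polar Q (ψ (f a)) r = 0 → polar Q (ψ (f a)) s = 0) : s = r ∨ s = -r :=
  iso_eq_of_perp L.five L.pts hr0 hr hs0 hs fun e he her => by
    obtain ⟨a, ha, rfl⟩ := L.chart.bij.surjOn he
    exact h a ha her

theorem Based.rf_ne {a : G} (ha : a ∈ nbr D d) {r : V} (hr : r ≠ 0) :
    rf Q c (ψ (f a)) r ≠ 0 := fun h => hr (by
  rw [← rf_rf L.pts.ne (L.norm ha) r, h, rf, bzero, mul_zero, zero_smul, sub_zero])

theorem Based.rho_conj {a y : G} (ha : a ∈ nbr D d) (hy : y ∈ far D d) :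
    ρ (a * y * a) = rf Q c (ψ (f a)) (ρ y) ∨ ρ (a * y * a) = -rf Q c (ψ (f a)) (ρ y) := by
  have hs := L.closed.set
  obtain ⟨h0, h1, h2⟩ := L.rho y hy
  obtain ⟨g0, g1, g2⟩ := L.rho _ (L.far_conj ha hy)
  refine L.iso_eq (L.rf_ne ha h0) (by rw [q_rf L.pts.ne (L.norm ha), h1]) g0 g1
    fun b hb hbr => ?_
  have hab := nbr_closed L.closed ha hb
  rw [← g2 b hb]
  rw [← rf_symm, ← polar_zero_iff (L.vconj ha hb), ← h2 _ hab] at hbr
  have := (commute_conj_iff a (a * b * a) y).2 hbr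
  rwa [inv_eq hs ha.1, show a * (a * b * a) * a = b by
    simp [mul_assoc, mul_self hs ha.1, mul_self_mul hs ha.1]] at this

theorem Based.rho_flip {y : G} (hy : y ∈ far D d) :
    ρ (d * y * d) = ρ y ∨ ρ (d * y * d) = -ρ y := by
  have hs := L.closed.set
  obtain ⟨h0, h1, h2⟩ := L.rho y hy
  obtain ⟨g0, g1, g2⟩ := L.rho _ (L.far_flip hy)
  refine L.iso_eq h0 h1 g0 g1 fun b hb hbr => ?_
  rw [← g2 b hb]
  rw [← h2 b hb] at hbr
  exact (hb.2.2.symm.mul_right hbr).mul_right hb.2.2.symm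

theorem Based.commute_flip {a y : G} (ha : a ∈ nbr D d) (hy : y ∈ far D d) (h : ¬ Commute a y) :
    Commute y (d * (a * y * a) * d) := by
  have hs := L.closed.set
  have e1 : y * d * y = d * y * d := braid hs hy.1 L.chart.mem fun k => hy.2 k.symm
  have e2 : y * a * y = a * y * a := braid hs hy.1 ha.1 fun k => h k.symm
  have e3 : d * a * d = a := by rw [ha.2.2.eq, mul_assoc, mul_self hs L.chart.mem, mul_one]
  set x := d * (a * y * a) * d with hx
  have key : y * x * y = x := by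
    calc y * x * y = y * d * (y * a * y) * d * y := by rw [e2, hx]; simp only [mul_assoc]
      _ = (y * d * y) * a * (y * d * y) := by simp only [mul_assoc]
      _ = (d * y * d) * a * (d * y * d) := by rw [e1]
      _ = d * y * (d * a * d) * y * d := by simp only [mul_assoc]
      _ = d * y * a * y * d := by rw [e3]
      _ = x := by rw [hx, ← e2]; simp only [mul_assoc]
  have := congrArg (fun t => t * y) key
  rw [mul_assoc (y * x), mul_self hs hy.1, mul_one] at this
  exact this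

theorem Based.conj_inj {y a b : G} (hy : y ∈ far D d) (ha : a ∈ nbr D d) (hb : b ∈ nbr D d)
    (hay : ¬ Commute a y) (hby : ¬ Commute b y)
    (h : rf Q c (ψ (f a)) (ρ y) = rf Q c (ψ (f b)) (ρ y) ∨
      rf Q c (ψ (f a)) (ρ y) = -rf Q c (ψ (f b)) (ρ y)) : a = b := by
  obtain ⟨-, h1, h2⟩ := L.rho y hy
  rw [h2 a ha] at hay
  rw [h2 b hb] at hby
  have hc := L.pts.ne
  have hp : ∀ {e}, polar Q (ρ y) (rf Q c (ψ (f e)) (ρ y)) =
      -(c * (polar Q (ψ (f e)) (ρ y) * polar Q (ψ (f e)) (ρ y))) := by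
    intro e
    rw [rf_right, b_iso h1, bcomm (ρ y) (ψ (f e))]; ring
  have k1 : ∀ c b b' : ZMod 3, c ≠ 0 → b ≠ 0 → b' ≠ 0 →
      -(c * (b * b)) ≠ -(-(c * (b' * b'))) := by decide
  rcases h with h | h
  · refine L.vinj ha hb ?_
    have h3 : (c * polar Q (ψ (f a)) (ρ y)) • ψ (f a) =
        (c * polar Q (ψ (f b)) (ρ y)) • ψ (f b) := sub_right_injective h
    have h4 : ψ (f a) = ((c * polar Q (ψ (f a)) (ρ y))⁻¹ * (c * polar Q (ψ (f b)) (ρ y))) •
        ψ (f b) := by
      rw [← smul_smul, ← h3, smul_smul, inv_mul_cancel₀ (mul_ne_zero hc hay), one_smul]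
    exact mem_line _ h4 (ne_zero_of_norm hc (L.norm ha))
  · refine absurd ?_ (k1 c _ _ hc hay hby)
    rw [← hp, ← hp, h, polar_neg_right]

theorem Based.conj_polar {a y : G} (ha : a ∈ nbr D d) (hy : y ∈ far D d) (hay : ¬ Commute a y) :
    polar Q (ρ y) (ρ (a * y * a)) ≠ 0 := by
  obtain ⟨-, h1, h2⟩ := L.rho y hy
  rw [h2 a ha] at hay
  rw [Ne, polar_zero_iff' (L.rho_conj ha hy), rf_right, b_iso h1, bcomm (ρ y) (ψ (f a))]
  have key : ∀ c b : ZMod 3, c ≠ 0 → b ≠ 0 → ¬ (0 - c * b * b = 0) := by decide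
  exact key _ _ L.pts.ne hay

variable [Finite G]

/-- The members not commuting with `d` which commute with `y`. -/
theorem Based.far_nbr {y z : G} (hy : y ∈ far D d) (hz : z ∈ far D d) (hne : z ≠ y)
    (h : Commute y z) : ∃ a ∈ nbr D d, ¬ Commute a y ∧ z = d * (a * y * a) * d := by
  have hs := L.closed.set
  have hd := L.chart.mem
  obtain ⟨N, k, l, m, P, -, -⟩ := exists_params L.good
  let h' : G → G := fun a => d * (a * y * a) * d
  have hmem : ∀ a ∈ nbr D d \ nbr D y, a ∈ nbr D d ∧ ¬ Commute a y := fun a ha =>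
    ⟨ha.1, fun hay => ha.2 ⟨ha.1.1, fun e => hy.2 (e ▸ ha.1.2.2), hay.symm⟩⟩
  have hmaps : h' '' (nbr D d \ nbr D y) ⊆ nbr D y \ nbr D d := by
    rintro _ ⟨a, ha, rfl⟩
    obtain ⟨ha1, hay⟩ := hmem a ha
    have hf := L.far_flip (L.far_conj ha1 hy)
    refine ⟨⟨hf.1, fun e => ?_, L.commute_flip ha1 hy hay⟩, fun h0 => hf.2 h0.2.2⟩
    have e' : a * y * a = d * y * d := by
      conv_rhs => rw [← (show d * (a * y * a) * d = y from e), L.flip_flip]
    refine L.conj_polar ha1 hy hay ?_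
    rw [e', polar_zero_iff' (L.rho_flip hy)]
    exact b_iso (L.rho y hy).2.1
  have hinj : Set.InjOn h' (nbr D d \ nbr D y) := by
    intro a ha b hb e
    obtain ⟨ha1, hay⟩ := hmem a ha
    obtain ⟨hb1, hby⟩ := hmem b hb
    have e' : a * y * a = b * y * b := mul_left_cancel (mul_right_cancel e)
    refine L.conj_inj hy ha1 hb1 hay hby ?_
    rcases L.rho_conj ha1 hy with e1 | e1 <;> rcases L.rho_conj hb1 hy with e2 | e2 <;>
      rw [e', e2] at e1
    · exact Or.inl e1.symm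
    · exact Or.inr e1.symm
    · exact Or.inr (by rw [e1, neg_neg])
    · exact Or.inl (neg_injective e1).symm
  have hcard : (nbr D y \ nbr D d).ncard ≤ (h' '' (nbr D d \ nbr D y)).ncard := by
    rw [hinj.ncard_image]
    have a1 := Set.ncard_inter_add_ncard_sdiff_eq_ncard (nbr D y) (nbr D d)
    have a2 := Set.ncard_inter_add_ncard_sdiff_eq_ncard (nbr D d) (nbr D y)
    rw [Set.inter_comm] at a1
    rw [P.deg y hy.1] at a1
    rw [P.deg d hd] at a2
    omega
  have heq := Set.eq_of_subset_of_ncard_le hmaps hcard (Set.toFinite _)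
  obtain ⟨a, ha, rfl⟩ := heq.ge (show z ∈ nbr D y \ nbr D d from
    ⟨⟨hz.1, hne, h⟩, fun h0 => hz.2 h0.2.2⟩)
  exact ⟨a, (hmem a ha).1, (hmem a ha).2, rfl⟩

/-- Members over orthogonal isotropic vectors do not commute. -/
theorem Based.not_commute_of_perp {y z : G} (hy : y ∈ far D d) (hz : z ∈ far D d) (hne : z ≠ y)
    (h : polar Q (ρ y) (ρ z) = 0) : ¬ Commute y z := by
  intro hcomm
  obtain ⟨a, ha, hay, rfl⟩ := L.far_nbr hy hz hne hcomm
  rw [polar_zero_iff' (L.rho_flip (L.far_conj ha hy))] at h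
  exact L.conj_polar ha hy hay h

/-- A non-orthogonal isotropic vector is the image of the vector of `y` under a member. -/
theorem Based.exists_conj {y : G} (hy : y ∈ far D d) {s : V} (hs : Q s = 0)
    (h : polar Q (ρ y) s ≠ 0) :
    ∃ a ∈ nbr D d, ¬ Commute a y ∧ (ρ (a * y * a) = s ∨ ρ (a * y * a) = -s) := by
  obtain ⟨-, h1, h2⟩ := L.rho y hy
  have key : ∀ t : V, Q t = 0 → polar Q (ρ y) t = -c →
      ∃ a ∈ nbr D d, ¬ Commute a y ∧ (ρ (a * y * a) = t ∨ ρ (a * y * a) = -t) := by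
    intro t ht e
    obtain ⟨hv, hvy, hrf⟩ := diff_norm L.pts.ne h1 ht e
    obtain ⟨a, ha, hav, hw⟩ := L.vsurj hv
    refine ⟨a, ha, fun hc => L.pts.ne ?_, ?_⟩
    · rw [← hvy]; exact (hw _).1 ((h2 a ha).1 hc)
    · have e' : rf Q c (ψ (f a)) (ρ y) = t := by
        rcases hav with e1 | e1 <;> rw [e1]
        · exact hrf
        · rw [rf_neg]; exact hrf
      rw [← e']
      exact L.rho_conj ha hy
  have dich : ∀ c b : ZMod 3, c ≠ 0 → b ≠ 0 → b = -c ∨ -b = -c := by decide
  rcases dich c _ L.pts.ne h with e | e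
  · exact key s hs e
  · obtain ⟨a, ha, h3, h4⟩ := key (-s) (by rw [QuadraticMap.map_neg, hs])
      (by rw [polar_neg_right, e])
    exact ⟨a, ha, h3, by rw [neg_neg] at h4; exact h4.symm⟩

/-- Every isotropic point lies under a member not commuting with `d`. -/
theorem Based.surj {r : V} (hr0 : r ≠ 0) (hr : Q r = 0) :
    ∃ y ∈ far D d, r = ρ y ∨ r = -ρ y := by
  obtain ⟨c₀, hc₀, hdc⟩ := exists_not_commute L.good.set.hD.gen L.closed L.good.set.hD.class_eq
    L.good.set.hD.two L.chart.mem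
  have h₀ : c₀ ∈ far D d := ⟨hc₀, hdc⟩
  obtain ⟨g0, g1, -⟩ := L.rho c₀ h₀
  have step : ∀ {y}, y ∈ far D d → ∀ {s : V}, Q s = 0 → polar Q (ρ y) s ≠ 0 →
      ∃ z ∈ far D d, s = ρ z ∨ s = -ρ z := by
    intro y hy s hs h
    obtain ⟨a, ha, -, e⟩ := L.exists_conj hy hs h
    refine ⟨_, L.far_conj ha hy, ?_⟩
    rcases e with e | e
    · exact Or.inl e.symm
    · exact Or.inr (by rw [e, neg_neg])
  by_cases h : polar Q (ρ c₀) r = 0
  swap
  · exact step h₀ hr h
  by_cases hm : r ∈ Submodule.span (ZMod 3) ({ρ c₀} : Set V)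
  · exact ⟨c₀, h₀, of_mem_line hr0 hm⟩
  obtain ⟨x, hx, -, hcx, hrx⟩ := exists_iso_perp L.pts.nondeg L.pts.ne (u := 0) (Or.inl rfl)
    g1 (by rw [bcomm]; exact bzero _) (by rw [bcomm]; exact bzero _) h (not_mem_symm g0 hm) hm
  obtain ⟨z, hz, ez⟩ := step h₀ hx hcx
  refine step hz hr ?_
  rw [Ne, ← polar_zero_iff ez, bcomm]
  exact hrx

/-- There are no more members not commuting with `d` than isotropic vectors. -/
theorem Based.far_le :
    (far D d).ncard ≤ {r : V | r ≠ 0 ∧ Q r = 0}.ncard := by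
  classical
  haveI : Fintype G := Fintype.ofFinite G
  obtain ⟨N, k, l, m, P, hm, -⟩ := exists_params L.good
  have hd := L.chart.mem
  have hc := L.pts.ne
  refine Nat.le_of_mul_le_mul_right ?_ hm
  rw [P.mul_far hd]
  set A := (nbr D d).toFinset
  set R := (Finset.univ : Finset V).filter fun r => r ≠ 0 ∧ Q r = 0 with hR
  have hRc : {r : V | r ≠ 0 ∧ Q r = 0}.ncard = R.card := by
    rw [← Set.ncard_coe_finset]; congr 1; ext r; simp [hR]
  rw [hRc]
  have hA : ∀ {a}, a ∈ A ↔ a ∈ nbr D d := Set.mem_toFinset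
  have hout : ∀ a ∈ A, (A.filter fun x => ¬ Commute a x).card = k - 1 - l := by
    intro a ha
    rw [hA] at ha
    rw [← Set.ncard_coe_finset]
    have e : ((A.filter fun x => ¬ Commute a x : Finset G) : Set G) =
        nbr D d \ ({a} ∪ (nbr D d ∩ nbr D a)) := by
      ext x
      simp only [Finset.coe_filter, hA, Set.mem_ofPred_eq, Set.mem_sdiff, Set.mem_union,
        Set.mem_singleton_iff, Set.mem_inter_iff]
      constructor
      · rintro ⟨hx, hax⟩
        refine ⟨hx, ?_⟩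
        rintro (rfl | ⟨-, h⟩)
        exacts [hax (Commute.refl _), hax h.2.2]
      · rintro ⟨hx, hno⟩
        exact ⟨hx, fun hax => hno (Or.inr ⟨hx, hx.1, fun e => hno (Or.inl e), hax⟩)⟩
    rw [e, Set.ncard_sdiff ?_ (Set.toFinite _), Set.ncard_union_eq, Set.ncard_singleton,
      P.lam d hd a ha, P.deg d hd]
    · omega
    · rw [Set.disjoint_singleton_left]; exact fun h' => h'.2.2.1 rfl
    · rintro x (rfl | h)
      exacts [ha, h.1]
  have hin : ∀ r ∈ R, (A.filter fun a => polar Q (ψ (f a)) r = 0).card = m := by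
    intro r hr
    rw [hR, Finset.mem_filter] at hr
    obtain ⟨y, hy, e⟩ := L.surj hr.2.1 hr.2.2
    rw [← Set.ncard_coe_finset, ← P.mu d hd y hy.1 hy.2]
    congr 1
    ext a
    simp only [Finset.coe_filter, hA, Set.mem_ofPred_eq, Set.mem_inter_iff]
    refine and_congr_right fun ha => ?_
    rw [polar_zero_iff' e, ← (L.rho y hy).2.2 a ha]
    exact ⟨fun h => ⟨ha.1, fun e => hy.2 (e ▸ ha.2.2), h.symm⟩, fun h => h.2.2.symm⟩
  have hΩ : (A.sigma fun a => A.filter fun x => ¬ Commute a x).card = k * (k - 1 - l) := by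
    rw [Finset.card_sigma, Finset.sum_congr rfl hout, Finset.sum_const, smul_eq_mul,
      ← Set.ncard_eq_toFinset_card', P.deg d hd]
  have hΨ : (R.sigma fun r => A.filter fun a => polar Q (ψ (f a)) r = 0).card = R.card * m := by
    rw [Finset.card_sigma, Finset.sum_congr rfl hin, Finset.sum_const, smul_eq_mul]
  rw [← hΩ, ← hΨ]
  let T : (_ : G) × G → (_ : V) × G := fun p =>
    ⟨(-(c * polar Q (ψ (f p.1)) (ψ (f p.2)))) • ψ (f p.2) - ψ (f p.1), p.1⟩
  have hdata : ∀ p ∈ (A.sigma fun a => A.filter fun x => ¬ Commute a x),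
      p.1 ∈ nbr D d ∧ p.2 ∈ nbr D d ∧ p.1 ≠ p.2 ∧ polar Q (ψ (f p.1)) (ψ (f p.2)) ≠ 0 := by
    intro p hp
    simp only [Finset.mem_sigma, Finset.mem_filter, hA] at hp
    obtain ⟨h1, h2, h3⟩ := hp
    rw [L.vcomm h1 h2, not_or] at h3
    exact ⟨h1, h2, h3.1, h3.2⟩
  refine Finset.card_le_card_of_injOn T (fun p hp => ?_) ?_
  · obtain ⟨h1, h2, hne, hβ⟩ := hdata p hp
    set β := polar Q (ψ (f p.1)) (ψ (f p.2)) with hβ'
    have k3 : ∀ c γ : ZMod 3, c ≠ 0 → γ ≠ 0 → -(c * γ) * γ - 2 * c = 0 ∧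
        c * (-(c * γ) * -(c * γ)) + c - -(c * γ) * γ = 0 := by decide
    simp only [Finset.mem_coe, T, Finset.mem_sigma, Finset.mem_filter, hA, hR, Finset.mem_univ,
      true_and]
    refine ⟨⟨fun h0 => hne ?_, ?_⟩, h1, ?_⟩
    · exact L.vinj h1 h2 (mem_line _ (sub_eq_zero.1 h0).symm (ne_zero_of_norm hc (L.norm h1)))
    · rw [qsub, qsmul, bsmul_left, bcomm (ψ (f p.2)) (ψ (f p.1)), ← hβ', L.norm h1, L.norm h2]
      linear_combination (k3 c β hc hβ).2
    · rw [polar_sub_right, bsmul_right, bself, ← hβ', L.norm h1]; exact (k3 c β hc hβ).1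
  · rintro ⟨a, x⟩ hp ⟨b, z⟩ hq e
    obtain ⟨h1, h2, hne, hβ⟩ := hdata _ (Finset.mem_coe.1 hp)
    obtain ⟨g1, g2, -, hγ⟩ := hdata _ (Finset.mem_coe.1 hq)
    simp only [T, Sigma.mk.injEq, heq_eq_eq] at e
    obtain ⟨e1, rfl⟩ := e
    dsimp only at h1 h2 hne hβ g1 g2 hγ
    have e2 : ψ (f x) = ((-(c * polar Q (ψ (f a)) (ψ (f x))))⁻¹ *
        (-(c * polar Q (ψ (f a)) (ψ (f z))))) • ψ (f z) := by
      rw [← smul_smul, ← sub_left_injective e1, smul_smul,
        inv_mul_cancel₀ (neg_ne_zero.2 (mul_ne_zero hc hβ)), one_smul]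
    rw [L.vinj h2 g2 (mem_line _ e2 (ne_zero_of_norm hc (L.norm h2)))]

/-- Two members over each isotropic point. -/
theorem Based.fibre {y z : G} (hy : y ∈ far D d) (hz : z ∈ far D d)
    (h : ρ z = ρ y ∨ ρ z = -ρ y) : z = y ∨ z = d * y * d := by
  classical
  by_contra hno
  push Not at hno
  -- choose one member over each point, both signs of a vector getting the same point
  let P : V → G → Prop := fun r w => w ∈ far D d ∧ (r = ρ w ∨ r = -ρ w)
  let cls : V → Set G := fun r => {w | P r w}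
  have hcls : ∀ r, cls (-r) = cls r := fun r => by
    ext w
    show w ∈ far D d ∧ _ ↔ w ∈ far D d ∧ _
    rw [neg_eq_iff_eq_neg, neg_inj, or_comm]
  let sel : V → G := fun r => Classical.epsilon (fun w => w ∈ cls r)
  have hsel : ∀ r, r ≠ 0 → Q r = 0 → P r (sel r) := fun r h0 h1 =>
    Classical.epsilon_spec (p := fun w => w ∈ cls r) (L.surj h0 h1)
  have hselneg : ∀ r, sel (-r) = sel r := fun r => by simp only [sel, hcls]
  let T : V → G := fun r => if r = ρ (sel r) then sel r else d * sel r * d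
  have hpm : ∀ r : V, r = -r → r = 0 := fun r e => funext fun i => by
    have key : ∀ b : ZMod 3, b = -b → b = 0 := by decide
    exact key _ (congrFun e i)
  have hTinj : Set.InjOn T {r : V | r ≠ 0 ∧ Q r = 0} := by
    intro r hr s hs e
    have key : ∀ r, r ≠ 0 → Q r = 0 → T r ∈ far D d ∧ (r = ρ (T r) ∨ r = -ρ (T r)) ∧
        (T r = sel r ↔ r = ρ (sel r)) := by
      intro r h0 h1
      obtain ⟨hw, hr'⟩ := hsel r h0 h1
      by_cases e : r = ρ (sel r)
      · simp only [T, if_pos e]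
        exact ⟨hw, hr', iff_of_true trivial e⟩
      · simp only [T, if_neg e]
        refine ⟨L.far_flip hw, ?_, iff_of_false (L.flip_ne hw) e⟩
        rcases L.rho_flip hw with e' | e' <;> rw [e']
        · exact hr'
        · rcases hr' with h | h
          · exact Or.inr (by rw [neg_neg]; exact h)
          · exact Or.inl h
    obtain ⟨-, r2, r3⟩ := key r hr.1 hr.2
    obtain ⟨-, s2, s3⟩ := key s hs.1 hs.2
    rw [e] at r2 r3
    have : s = r ∨ s = -r := by
      rcases r2 with a | a <;> rcases s2 with b | b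
      · exact Or.inl (b.trans a.symm)
      · exact Or.inr (b.trans (congrArg Neg.neg a.symm))
      · exact Or.inr (b.trans (by rw [a, neg_neg]))
      · exact Or.inl (b.trans a.symm)
    rcases this with rfl | rfl
    · rfl
    rw [hselneg] at s3
    obtain ⟨-, hr'⟩ := hsel r hr.1 hr.2
    rcases hr' with h | h
    · exact absurd ((s3.1 (r3.2 h)).trans h.symm) (fun k => hr.1 (hpm r k.symm))
    · have hne : r ≠ ρ (sel r) := fun k => hr.1 (hpm r (by rw [← k] at h; exact h))
      exact absurd (r3.1 (s3.2 (neg_eq_iff_eq_neg.2 h))) hne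
  have himg : T '' {r : V | r ≠ 0 ∧ Q r = 0} = far D d := by
    refine Set.eq_of_subset_of_ncard_le ?_ ?_ (Set.toFinite _)
    · rintro _ ⟨r, ⟨h0, h1⟩, rfl⟩
      obtain ⟨hw, -⟩ := hsel r h0 h1
      simp only [T]
      split_ifs
      exacts [hw, L.far_flip hw]
    · rw [hTinj.ncard_image]
      exact L.far_le
  obtain ⟨y0, y1, -⟩ := L.rho y hy
  obtain ⟨hw, hw'⟩ := hsel _ y0 y1
  have hover : ∀ w ∈ far D d, ρ w = ρ y ∨ ρ w = -ρ y →
      w = sel (ρ y) ∨ w = d * sel (ρ y) * d := by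
    intro w hwf hwy
    obtain ⟨r, ⟨h0, h1⟩, e⟩ := himg.ge hwf
    obtain ⟨hs, hs'⟩ := hsel r h0 h1
    have hr : r = ρ y ∨ r = -ρ y := by
      have hTr : r = ρ (T r) ∨ r = -ρ (T r) := by
        simp only [T]
        split_ifs
        · exact hs'
        · rcases L.rho_flip hs with k | k <;> rw [k]
          · exact hs'
          · rw [neg_neg]; exact hs'.symm
      rw [e] at hTr
      rcases hTr with k | k <;> rcases hwy with k' | k' <;> rw [k, k'] <;> simp
    have hsy : sel r = sel (ρ y) := by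
      rcases hr with k | k
      · rw [k]
      · rw [k, hselneg]
    rw [← e, ← hsy]
    simp only [T]
    split_ifs
    · exact Or.inl rfl
    · exact Or.inr rfl
  rcases hover y hy (Or.inl rfl) with e | e <;> rcases hover z hz h with e' | e'
  · exact hno.1 (e'.trans e.symm)
  · exact hno.2 (e'.trans (congrArg (fun w => d * w * d) e.symm))
  · exact hno.2 (e'.trans ((L.flip_flip _).symm.trans (congrArg (fun w => d * w * d) e.symm)))
  · exact hno.1 (e'.trans e.symm)

/-- Over a non-orthogonal point exactly one of the two members commutes with `y`. -/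
theorem Based.commute_iff_not {y z : G} (hy : y ∈ far D d) (hz : z ∈ far D d)
    (h : polar Q (ρ y) (ρ z) ≠ 0) : Commute y (d * z * d) ↔ ¬ Commute y z := by
  obtain ⟨a, ha, hay, e⟩ := L.exists_conj hy (L.rho z hz).2.1 h
  have hne : ¬ Commute y (a * y * a) := (not_commute_conj L.closed ha.1 hy.1 hay).2
  rcases L.fibre (L.far_conj ha hy) hz (by
    rcases e with e | e <;> rw [e] <;> simp) with rfl | rfl
  · exact iff_of_true (L.commute_flip ha hy hay) hne
  · rw [L.flip_flip]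
    exact iff_of_false hne (not_not.2 (L.commute_flip ha hy hay))

end CfsgLib.ThreeTrans.Classif.FromRefl
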