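import Mathlib
import Cfsg.Agent.Lib.ThreeTrans.Classif.Counting
import Cfsg.Agent.Lib.ThreeTrans.ReflClass
import Cfsg.Agent.Lib.ThreeTrans.Uniq.Extend
import Cfsg.Agent.Lib.ThreeTrans.Classif.FromRefl.Fibres

/-!
A good class whose commuting graph is the orthogonality graph of the vectors of norm `c` is the
reflection class.
-/

set_option autoImplicit false
set_option maxHeartbeats 400000

namespace CfsgLib.ThreeTrans.Classif.FromRefl

open QuadraticMap
open CfsgLib.ThreeTrans
open CfsgLib.ThreeTrans.LocalSymThree (nbr)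
open CfsgLib.Orth (O refl refl_inv refl_conj app app_refl)

universe u

variable {G : Type u} [Group G] [Finite G] {D : Set G} {N : ℕ}
  {Q : QuadraticForm (ZMod 3) (Fin N → ZMod 3)} {c : ZMod 3} {φ : G → Fin N → ZMod 3}

local notation "V" => Fin N → ZMod 3

omit [Finite G] in
theorem conj_form (hc : c ≠ 0) (v x : V) :
    x - (polar Q v x / c) • v = rf Q c v x := by
  have hcc : ∀ c : ZMod 3, c ≠ 0 → c * c = 1 := by decide
  rw [rf, div_eq_mul_inv, inv_eq_of_mul_eq_one_right (hcc c hc), mul_comm]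

omit [Finite G] in
/-- The graph determines conjugation. -/
theorem conj_of_graph (hG : Good D) (hQ : (QuadraticMap.polarBilin Q).Nondegenerate) (hc : c ≠ 0)
    (hnorm : ∀ a ∈ D, Q (φ a) = c)
    (hinj : ∀ a ∈ D, ∀ b ∈ D, (φ a = φ b ∨ φ a = -φ b) → a = b)
    (hsurj : ∀ z, Q z = c → ∃ a ∈ D, φ a = z ∨ φ a = -z)
    (hcomm : ∀ a ∈ D, ∀ b ∈ D, (Commute a b ↔ a = b ∨ polar Q (φ a) (φ b) = 0))
    (hpair : ∀ a ∈ D, ∀ b ∈ D, ¬ Commute a b →
      ∃ x ∈ nbr D a ∩ nbr D b, ∃ y ∈ nbr D a ∩ nbr D b, x ≠ y ∧ Commute x y)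
    {a b : G} (ha : a ∈ D) (hb : b ∈ D) :
    φ (a * b * a) = rf Q c (φ a) (φ b) ∨ φ (a * b * a) = -rf Q c (φ a) (φ b) := by
  have hcl := hG.set.hD.closed
  have hs := hcl.set
  by_cases hab : Commute a b
  · have e : a * b * a = b := by rw [hab.eq, mul_assoc, mul_self hs ha, mul_one]
    rw [e]
    rcases (hcomm a ha b hb).1 hab with rfl | h
    · rw [rf_self hc (hnorm a ha), neg_neg]; exact Or.inr rfl
    · rw [rf_of_perp h]; exact Or.inl rfl
  have hab' := hab
  rw [hcomm a ha b hb, not_or] at hab'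
  obtain ⟨hne, hβ⟩ := hab'
  set u := φ a with hu
  set v := φ b with hv
  set β := polar Q u v with hβ'
  have hz := conj_mem_left hcl ha hb
  obtain ⟨hza, hzb⟩ := not_commute_conj hcl ha hb hab
  set w := φ (a * b * a) with hw
  -- vectors of norm `c` orthogonal to both are orthogonal to the third
  have hperp : ∀ x, Q x = c → polar Q u x = 0 → polar Q v x = 0 → polar Q w x = 0 := by
    intro x hx hux hvx
    obtain ⟨e, he, hev⟩ := hsurj x hx
    have hea : Commute e a := (hcomm e he a ha).2 (Or.inr (by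
      rw [polar_zero_iff hev, bcomm]; exact hux))
    have heb : Commute e b := (hcomm e he b hb).2 (Or.inr (by
      rw [polar_zero_iff hev, bcomm]; exact hvx))
    have h := (hcomm e he _ hz).1 ((hea.mul_right heb).mul_right hea)
    rcases h with h | h
    · exact absurd (h ▸ hea).symm hza
    · rw [bcomm, ← polar_zero_iff hev]; exact h
  obtain ⟨x₀, hx₀, x₁, hx₁, hne01, h01⟩ := hpair a ha b hb hab
  have hx : ∀ {e}, e ∈ nbr D a ∩ nbr D b →
      Q (φ e) = c ∧ polar Q u (φ e) = 0 ∧ polar Q v (φ e) = 0 := fun he =>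
    ⟨hnorm _ he.1.1, ((hcomm a ha _ he.1.1).1 he.1.2.2).resolve_left fun e => he.1.2.1 e.symm,
      ((hcomm b hb _ he.1.1).1 he.2.2.2).resolve_left fun e => he.2.2.1 e.symm⟩
  obtain ⟨p0, p1, p2⟩ := hx hx₀
  obtain ⟨q0, q1, q2⟩ := hx hx₁
  have horth : polar Q (φ x₀) (φ x₁) = 0 :=
    ((hcomm _ hx₀.1.1 _ hx₁.1.1).1 h01).resolve_left hne01
  have hall : ∀ z, polar Q u z = 0 → polar Q v z = 0 → polar Q z w = 0 := by
    intro z hzu hzv
    obtain ⟨y, hy⟩ : ∃ y, y = z + (c * polar Q z (φ x₀)) • φ x₀ + (c * polar Q z (φ x₁)) • φ x₁ :=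
      ⟨_, rfl⟩
    have hy0 : polar Q y (φ x₀) = 0 := by
      rw [hy, b_trans_left, b_trans_left, bself, p0, bcomm (φ x₁) (φ x₀), horth]
      have key : ∀ c b b' : ZMod 3, c ≠ 0 → b + c * b * (2 * c) + c * b' * 0 = 0 := by decide
      exact key _ _ _ hc
    have hy1 : polar Q y (φ x₁) = 0 := by
      rw [hy, b_trans_left, b_trans_left, bself, q0, horth]
      have key : ∀ c b b' : ZMod 3, c ≠ 0 → b + c * b' * 0 + c * b * (2 * c) = 0 := by decide
      exact key _ _ _ hc
    have hyu : polar Q u y = 0 := by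
      rw [hy, b_trans_right, b_trans_right, hzu, p1, q1]; ring
    have hyv : polar Q v y = 0 := by
      rw [hy, b_trans_right, b_trans_right, hzv, p2, q2]; ring
    have w0 : polar Q w (φ x₀) = 0 := hperp _ p0 p1 p2
    have w1 : polar Q w (φ x₁) = 0 := hperp _ q0 q1 q2
    have wy : polar Q w y = 0 := by
      have key : ∀ c q : ZMod 3, c ≠ 0 → q = c ∨ q + c = c ∨ q + c + c = c := by decide
      rcases key c (Q y) hc with h | h | h
      · exact hperp y h hyu hyv
      · have := hperp (y + φ x₀) (by rw [qadd, hy0, p0, add_zero, h])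
          (by rw [polar_add_right, hyu, p1, add_zero]) (by rw [polar_add_right, hyv, p2, add_zero])
        rwa [polar_add_right, w0, add_zero] at this
      · have := hperp (y + φ x₀ + φ x₁)
          (by rw [qadd, qadd, hy0, polar_add_left, hy1, horth, p0, q0, add_zero, add_zero, add_zero, h])
          (by rw [polar_add_right, polar_add_right, hyu, p1, q1, add_zero, add_zero])
          (by rw [polar_add_right, polar_add_right, hyv, p2, q2, add_zero, add_zero])
        rwa [polar_add_right, polar_add_right, w0, w1, add_zero, add_zero] at this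
    rw [hy, b_trans_right, b_trans_right, w0, w1, mul_zero, mul_zero, add_zero, add_zero, bcomm] at wy
    exact wy
  have hmem : w ∈ Submodule.span (ZMod 3) ({u} : Set V) ⊔ Submodule.span (ZMod 3) ({v} : Set V) := by
    rw [← LinearMap.BilinForm.orthogonal_orthogonal hQ (CfsgLib.Orth.polarBilin_isRefl hQ)
      (Submodule.span (ZMod 3) ({u} : Set V) ⊔ Submodule.span (ZMod 3) ({v} : Set V)),
      LinearMap.BilinForm.mem_orthogonal_iff]
    intro z hz'
    have h1 := LinearMap.BilinForm.mem_orthogonal_iff.1 hz'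
    exact hall z (h1 u (Submodule.mem_sup_left (Submodule.mem_span_singleton_self u)))
      (h1 v (Submodule.mem_sup_right (Submodule.mem_span_singleton_self v)))
  simp only [Submodule.mem_sup, Submodule.mem_span_singleton] at hmem
  obtain ⟨_, ⟨α, rfl⟩, _, ⟨γ, rfl⟩, e⟩ := hmem
  have hwn : Q w = c := hnorm _ hz
  have hw0 : w ≠ 0 := ne_zero_of_norm hc hwn
  have hα : α ≠ 0 := by
    rintro rfl
    rw [zero_smul, zero_add] at e
    have e2 := hinj _ hz b hb (mem_line γ e.symm hw0)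
    exact hzb (by rw [e2])
  have hγ : γ ≠ 0 := by
    rintro rfl
    rw [zero_smul, add_zero] at e
    exact hza (by rw [hinj _ hz a ha (mem_line α e.symm hw0)])
  rw [← e, qadd, qsmul, qsmul, bsmul_left, bsmul_right, ← hβ', show Q u = c from hnorm a ha,
    show Q v = c from hnorm b hb] at hwn
  have key : ∀ c β α γ : ZMod 3, c ≠ 0 → β ≠ 0 → α ≠ 0 → γ ≠ 0 →
      α * α * c + γ * γ * c + α * (γ * β) = c → α = -(γ * (c * β)) := by decide
  have hα' := key c β α γ hc hβ hα hγ hwn
  have e' : w = γ • rf Q c u v := by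
    rw [rf, ← hβ', ← e, hα', smul_sub, smul_smul, neg_smul]; abel
  exact mem_line γ e' hw0

/-- The reflection group modulo its centre is centreless and separates the class. -/
theorem target (hQ : (QuadraticMap.polarBilin Q).Nondegenerate) (hN : 5 ≤ N) (hc : c ≠ 0) :
    Subgroup.center (↥(Cfsg.reflectionSubgroup (⇑Q) c) ⧸
        Subgroup.center ↥(Cfsg.reflectionSubgroup (⇑Q) c)) = ⊥ ∧
      Cfsg.IsThreeTranspositionGroup
        ((QuotientGroup.mk : ↥(Cfsg.reflectionSubgroup (⇑Q) c) → _) '' ReflClass.cls Q c :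
          Set (↥(Cfsg.reflectionSubgroup (⇑Q) c) ⧸
            Subgroup.center ↥(Cfsg.reflectionSubgroup (⇑Q) c))) ∧
      ∀ u v, ∀ hu : Q u = c, ∀ hv : Q v = c,
        ((ReflClass.rc u hu : ↥(Cfsg.reflectionSubgroup (⇑Q) c)) :
          ↥(Cfsg.reflectionSubgroup (⇑Q) c) ⧸ Subgroup.center ↥(Cfsg.reflectionSubgroup (⇑Q) c)) =
          (ReflClass.rc v hv : ↥(Cfsg.reflectionSubgroup (⇑Q) c)) → v = u ∨ v = -u := by
  set R := Cfsg.reflectionSubgroup (⇑Q) c
  have hD := ReflClass.classTwo hQ hN hc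
  obtain ⟨h2, h3⟩ := ReflClass.cores_central hQ hN hc
  have hgrp := group_of_class (ReflClass.isThreeTranspositionClass hQ hN hc)
  set π := QuotientGroup.mk' (Subgroup.center R)
  have hinj : ∀ u v, ∀ hu : Q u = c, ∀ hv : Q v = c,
      π (ReflClass.rc u hu) = π (ReflClass.rc v hv) → v = u ∨ v = -u := by
    intro u v hu hv h
    obtain ⟨z, hz, e⟩ := (QuotientGroup.mk'_eq_mk' _).1 h
    have hcom : ∀ g : R, Commute g (ReflClass.rc v hv) ↔ Commute g (ReflClass.rc u hu) := by
      intro g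
      have hgz : Commute g z := Subgroup.mem_center_iff.1 hz g
      rw [← e]
      refine ⟨fun h => ?_, fun h => h.mul_right hgz⟩
      have := h.mul_right hgz.inv_right
      rwa [mul_inv_cancel_right] at this
    by_contra hno
    have h0 := (hcom (ReflClass.rc u hu)).2 (Commute.refl _)
    rw [ReflClass.rc_commute_iff hc hu hv] at h0
    have huv : polar Q u v = 0 := h0.resolve_right hno
    obtain ⟨y, hy0, huy, hvy, hy⟩ := ReflClass.exists_singular_perp hQ hN hc (u := u) (w := v)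
    have hw : Q (v + y) = c := by rw [qadd, hv, hy, hvy]; ring
    have h1 : Commute (ReflClass.rc (v + y) hw) (ReflClass.rc v hv) :=
      (hcom _).2 (((ReflClass.rc_commute_iff hc hu hw).2
        (Or.inl (by rw [polar_add_right, huv, huy, add_zero]))).symm)
    rcases (ReflClass.rc_commute_iff hc hw hv).1 h1 with h1 | h1 | h1
    · rw [polar_add_left, bcomm y v, hvy, add_zero] at h1
      exact bself_ne hc hv h1
    · rw [left_eq_add] at h1
      exact hy0 h1
    · have e1 : y = v := funext fun i => by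
        have key : ∀ a b : ZMod 3, a = -(a + b) → b = a := by decide
        exact key _ _ (congrFun h1 i)
      rw [e1, hv] at hy
      exact hc hy
  refine ⟨map_le_bot π (QuotientGroup.mk'_surjective _) (QuotientGroup.ker_mk' _).le
    (by rw [hD.fitting_eq_center h2 h3, QuotientGroup.ker_mk']) _
    (@CommGroup.isNilpotent _ { (inferInstance : Group (Subgroup.center (R ⧸ Subgroup.center R))) with
      mul_comm := fun a b => Subtype.ext (Subgroup.mem_center_iff.1 b.2 a.1) }), ⟨⟨?_, ?_⟩, ?_, ?_⟩,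
    hinj⟩
  · rintro _ ⟨g, hg, rfl⟩
    obtain ⟨v, hv, rfl⟩ := ReflClass.exists_rc hg
    refine orderOf_eq_prime ?_ fun h => ?_
    · show π _ ^ 2 = 1
      rw [← map_pow, pow_two, mul_self hgrp.1 (ReflClass.rc_mem hv), map_one]
    · obtain ⟨e, he, -, -, hne⟩ := ReflClass.exists_commuting_pair hQ hN hc
      obtain ⟨g, hg, hgv⟩ := exists_not_commute hgrp.2.2 hD.closed hD.class_eq hD.two
        (ReflClass.rc_mem hv)
      exact hgv (Subgroup.mem_center_iff.1 ((QuotientGroup.eq_one_iff _).1 h) g).symm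
  · rintro _ ⟨g, hg, rfl⟩ _ ⟨g', hg', rfl⟩
    exact (hgrp.1.2 g hg g' hg').imp
      (fun k => (map_pow π (g * g') 2).symm.trans (by rw [k, map_one]))
      (fun k => (map_pow π (g * g') 3).symm.trans (by rw [k, map_one]))
  · intro g e he
    obtain ⟨e, he', rfl⟩ := he
    obtain ⟨g, rfl⟩ := QuotientGroup.mk'_surjective _ g
    exact ⟨g * e * g⁻¹, hgrp.2.1 g e he', by
      show π (g * e * g⁻¹) = π g * π e * (π g)⁻¹
      rw [map_mul, map_mul, map_inv]⟩
  · have : π '' ReflClass.cls Q c = (QuotientGroup.mk : R → _) '' ReflClass.cls Q c := rfl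
    rw [← this, ← MonoidHom.map_closure, hgrp.2.2, ← MonoidHom.range_eq_map,
      MonoidHom.range_eq_top]
    exact QuotientGroup.mk'_surjective _

/-- A good class with the orthogonality graph of norm `c` vectors is the reflection class. -/
theorem refl_of_graph (hG : Good D) (hQ : (QuadraticMap.polarBilin Q).Nondegenerate) (hN : 5 ≤ N)
    (hc : c ≠ 0) (hnorm : ∀ a ∈ D, Q (φ a) = c)
    (hinj : ∀ a ∈ D, ∀ b ∈ D, (φ a = φ b ∨ φ a = -φ b) → a = b)
    (hsurj : ∀ z, Q z = c → ∃ a ∈ D, φ a = z ∨ φ a = -z)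
    (hcomm : ∀ a ∈ D, ∀ b ∈ D, (Commute a b ↔ a = b ∨ polar Q (φ a) (φ b) = 0))
    (hpair : ∀ a ∈ D, ∀ b ∈ D, ¬ Commute a b →
      ∃ x ∈ nbr D a ∩ nbr D b, ∃ y ∈ nbr D a ∩ nbr D b, x ≠ y ∧ Commute x y) :
    KindRefl D Q c ∧ ReflPts D Q c φ := by
  classical
  have hconj : ∀ a ∈ D, ∀ b ∈ D,
      φ (a * b * a) = rf Q c (φ a) (φ b) ∨ φ (a * b * a) = -rf Q c (φ a) (φ b) :=
    fun a ha b hb => conj_of_graph hG hQ hc hnorm hinj hsurj hcomm hpair ha hb
  refine ⟨?_, hQ, hc, hnorm, hinj, hsurj, hcomm, fun a ha b hb => ?_⟩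
  swap
  · dsimp only
    rw [conj_form hc]
    exact hconj a ha b hb
  set R := Cfsg.reflectionSubgroup (⇑Q) c
  obtain ⟨hZ, hgrp, hqinj⟩ := target hQ hN hc
  let μ : G → R ⧸ Subgroup.center R := fun a =>
    if h : Q (φ a) = c then (ReflClass.rc (φ a) h : R) else 1
  have hμ : ∀ a (ha : a ∈ D), μ a = (ReflClass.rc (φ a) (hnorm a ha) : R) := fun a ha =>
    dif_pos (hnorm a ha)
  suffices h : Set.BijOn μ D ((QuotientGroup.mk : R → _) '' ReflClass.cls Q c) ∧
      ∀ a ∈ D, ∀ b ∈ D, μ (a * b * a) = μ a * μ b * μ a by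
    obtain ⟨e, -, he⟩ := Uniq.exists_mulEquiv hG.group hgrp hG.triv hZ h.1 h.2
    exact ⟨e, he⟩
  refine ⟨?_, fun a ha b hb => ?_⟩
  · refine ⟨fun a ha => ?_, fun a ha b hb h => ?_, ?_⟩
    · rw [hμ a ha]
      exact Set.mem_image_of_mem _ (ReflClass.rc_mem (hnorm a ha))
    · rw [hμ a ha, hμ b hb] at h
      refine hinj a ha b hb ?_
      rcases hqinj _ _ _ _ h with e | e
      · exact Or.inl e.symm
      · exact Or.inr (by rw [e, neg_neg])
    · rintro _ ⟨g, hg, rfl⟩
      obtain ⟨v, hv, rfl⟩ := ReflClass.exists_rc hg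
      obtain ⟨a, ha, e⟩ := hsurj v hv
      refine ⟨a, ha, ?_⟩
      rw [hμ a ha]
      congr 1
      refine (ReflClass.rc_eq_iff hc (hnorm a ha) hv).2 ?_
      rcases e with e | e
      · exact Or.inl e.symm
      · exact Or.inr (by rw [e, neg_neg])
  · have hm := conj_mem_left hG.set.hD.closed ha hb
    have hA : ∀ {x : V}, Q x = c → Q x ≠ 0 := fun h => h ▸ hc
    have hcc : ∀ c : ZMod 3, c ≠ 0 → c * c = 1 := by decide
    rw [hμ a ha, hμ b hb, hμ _ hm, ← QuotientGroup.mk_mul, ← QuotientGroup.mk_mul]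
    refine congrArg _ (Subtype.ext ?_)
    show refl Q (φ (a * b * a)) = refl Q (φ a) * refl Q (φ b) * refl Q (φ a)
    have h := refl_conj (refl Q (φ a)) (φ b)
    rw [refl_inv] at h
    rw [h, app_refl, hnorm a ha, inv_eq_of_mul_eq_one_right (hcc c hc), bcomm (φ b) (φ a)]
    rcases hconj a ha b hb with e | e <;> rw [e]
    · rfl
    · exact CfsgLib.Orth.refl_neg _

end CfsgLib.ThreeTrans.Classif.FromRefl
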