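import Mathlib
import Cfsg.Agent.Lib.ThreeTrans.Classif.FromRefl.Fibres

/-! A choice of sign for the vectors of the members not commuting with `d`, under which commuting
between two of them is having inner product `c`. -/

set_option autoImplicit false
set_option maxHeartbeats 400000

namespace CfsgLib.ThreeTrans.Classif.FromRefl

open QuadraticMap
open CfsgLib.ThreeTrans
open CfsgLib.ThreeTrans.LocalSymThree (nbr nbr_symm)

universe u v

variable {G : Type u} [Group G] {D : Set G} {d : G} {Y : Type v} [Group Y] {E : Set Y}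
  {f : G → Y} {n : ℕ} {Q : QuadraticForm (ZMod 3) (Fin n → ZMod 3)} {c : ZMod 3}
  {ψ : Y → Fin n → ZMod 3} {ρ : G → Fin n → ZMod 3}

local notation "V" => Fin n → ZMod 3

/-- `r` is one of the two vectors of the member `y`. -/
def Lift (D : Set G) (d : G) (ρ : G → V) (y : G) (r : V) : Prop :=
  y ∈ far D d ∧ (r = ρ y ∨ r = -ρ y)

/-- Commuting is the same as having inner product `c`. -/
def Agree (Q : QuadraticForm (ZMod 3) V) (c : ZMod 3) (y : G) (r : V) (z : G) (s : V) : Prop :=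
  Commute y z ↔ polar Q r s = c

theorem Agree.symm {y z : G} {r s : V} (h : Agree Q c y r z s) : Agree Q c z s y r := by
  unfold Agree at h ⊢
  rw [Commute.symm_iff, bcomm s r]
  exact h

variable (L : Based D d f E Q c ψ ρ)
include L

theorem Lift.iso {y : G} {r : V} (h : Lift D d ρ y r) : r ≠ 0 ∧ Q r = 0 := by
  obtain ⟨h0, h1, -⟩ := L.rho y h.1
  rcases h.2 with rfl | rfl
  · exact ⟨h0, h1⟩
  · exact ⟨neg_ne_zero.2 h0, by rw [QuadraticMap.map_neg, h1]⟩

omit L in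
theorem Lift.zero_iff {y : G} {r : V} (h : Lift D d ρ y r) (w : V) :
    polar Q r w = 0 ↔ polar Q (ρ y) w = 0 := polar_zero_iff h.2

omit L in
theorem Lift.zero_iff' {y : G} {r : V} (h : Lift D d ρ y r) (w : V) :
    polar Q w r = 0 ↔ polar Q w (ρ y) = 0 := polar_zero_iff' h.2

omit L in
theorem Lift.neg {y : G} {r : V} (h : Lift D d ρ y r) : Lift D d ρ y (-r) :=
  ⟨h.1, by rcases h.2 with e | e <;> simp [e]⟩

theorem Lift.flip {y : G} {r : V} (h : Lift D d ρ y r) : Lift D d ρ (d * y * d) (-r) := by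
  refine ⟨L.far_flip h.1, ?_⟩
  rcases h.2 with e | e <;> rcases L.rho_flip h.1 with e' | e' <;> simp [e, e']

omit L in
theorem Lift.pm {y : G} {r s : V} (hr : Lift D d ρ y r) (hs : Lift D d ρ y s) : s = r ∨ s = -r := by
  rcases hr.2 with e | e <;> rcases hs.2 with e' | e' <;> simp [e, e']

omit L in
theorem rho_pm {y z : G} {r s : V} (hy : Lift D d ρ y r) (hz : Lift D d ρ z s)
    (h : s = r ∨ s = -r) : ρ z = ρ y ∨ ρ z = -ρ y := by
  have key : ∀ {p q : V}, (r = p ∨ r = -p) → (s = q ∨ s = -q) → q = p ∨ q = -p := by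
    intro p q hp hq
    rcases h with rfl | rfl <;> rcases hp with rfl | rfl
    · rcases hq with e | e
      · exact Or.inl e.symm
      · exact Or.inr (by rw [e, neg_neg])
    · rcases hq with e | e
      · exact Or.inr e.symm
      · exact Or.inl (neg_injective e).symm
    · rcases hq with e | e
      · exact Or.inr e.symm
      · exact Or.inl (neg_injective e).symm
    · rcases hq with e | e
      · exact Or.inl (by rw [← e, neg_neg])
      · exact Or.inr (by rw [← neg_eq_iff_eq_neg, ← e, neg_neg])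
  exact key hy.2 hz.2

variable [Finite G]

theorem Lift.comm_flip {y z : G} {r s : V} (hy : Lift D d ρ y r) (hz : Lift D d ρ z s)
    (h : polar Q r s ≠ 0) : Commute y (d * z * d) ↔ ¬ Commute y z :=
  L.commute_iff_not hy.1 hz.1 (by rwa [Ne, ← hy.zero_iff, ← hz.zero_iff'])

theorem Agree.flip_right {y z : G} {r s : V} (hy : Lift D d ρ y r) (hz : Lift D d ρ z s)
    (h : polar Q r s ≠ 0) : Agree Q c y r (d * z * d) (-s) ↔ Agree Q c y r z s := by
  unfold Agree
  rw [hy.comm_flip L hz h, polar_neg_right]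
  have key : ∀ b c : ZMod 3, b ≠ 0 → c ≠ 0 → (-b = c ↔ ¬ b = c) := by decide
  rw [key _ _ h L.pts.ne]
  exact not_iff_not

theorem Agree.flip_left {y z : G} {r s : V} (hy : Lift D d ρ y r) (hz : Lift D d ρ z s)
    (h : polar Q r s ≠ 0) : Agree Q c (d * y * d) (-r) z s ↔ Agree Q c y r z s := by
  have h' : polar Q s r ≠ 0 := by rwa [bcomm]
  exact ⟨fun a => ((Agree.flip_right L hz hy h').1 a.symm).symm,
    fun a => ((Agree.flip_right L hz hy h').2 a.symm).symm⟩

omit L [Finite G] in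
theorem agree_neg {y z : G} {r s : V} (hc : c ≠ 0) (h : polar Q r s ≠ 0) :
    Agree Q c y r z (-s) ↔ ¬ Agree Q c y r z s := by
  unfold Agree
  rw [polar_neg_right]
  have key : ∀ b c : ZMod 3, b ≠ 0 → c ≠ 0 → (-b = c ↔ ¬ b = c) := by decide
  rw [key _ _ h hc]
  tauto

omit L [Finite G] in
theorem agree_neg_left {y z : G} {r s : V} (hc : c ≠ 0) (h : polar Q r s ≠ 0) :
    Agree Q c y (-r) z s ↔ ¬ Agree Q c y r z s := by
  unfold Agree
  rw [polar_neg_left]
  have key : ∀ b c : ZMod 3, b ≠ 0 → c ≠ 0 → (-b = c ↔ ¬ b = c) := by decide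
  rw [key _ _ h hc]
  tauto

/-- Three pairwise non-orthogonal points are consistent. -/
theorem triangle {y₀ y₁ y : G} {r₀ r₁ r : V} (h₀ : Lift D d ρ y₀ r₀) (h₁ : Lift D d ρ y₁ r₁)
    (hy : Lift D d ρ y r) (n01 : polar Q r₀ r₁ ≠ 0) (n0 : polar Q r₀ r ≠ 0) (n1 : polar Q r₁ r ≠ 0)
    (a01 : Agree Q c y₀ r₀ y₁ r₁) (a0 : Agree Q c y₀ r₀ y r) : Agree Q c y₁ r₁ y r := by
  suffices key : ∀ {y₁ : G} {r₁ : V}, Lift D d ρ y₁ r₁ → polar Q r₀ r₁ ≠ 0 → polar Q r₁ r ≠ 0 →
      ¬ Commute y₀ y₁ → Agree Q c y₀ r₀ y₁ r₁ → Agree Q c y₁ r₁ y r by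
    by_cases h : Commute y₀ y₁
    · refine (Agree.flip_left L h₁ hy n1).1 (key (h₁.flip L) ?_ ?_ ?_ ?_)
      · rwa [polar_neg_right, Ne, neg_eq_zero]
      · rwa [polar_neg_left, Ne, neg_eq_zero]
      · rw [h₀.comm_flip L h₁ n01]; exact not_not.2 h
      · exact (Agree.flip_right L h₀ h₁ n01).2 a01
    · exact key h₁ n01 n1 h a01
  intro y₁ r₁ h₁ n01 n1 hnc a01
  have hc := L.pts.ne
  have hs := L.closed.set
  have hb : polar Q r₀ r₁ = -c := by
    have key : ∀ b c : ZMod 3, b ≠ 0 → c ≠ 0 → b ≠ c → b = -c := by decide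
    exact key _ _ n01 hc fun e => hnc (a01.2 e)
  obtain ⟨hv, hvr, hrf⟩ := diff_norm hc (h₀.iso L).2 (h₁.iso L).2 hb
  obtain ⟨a, ha, hav, hw⟩ := L.vsurj hv
  have hay₀ : ¬ Commute a y₀ := fun h => hc (by
    rw [← hvr]
    exact (hw _).1 ((h₀.zero_iff' _).2 (((L.rho y₀ h₀.1).2.2 a ha).1 h)))
  have e1 : rf Q c (ψ (f a)) r₀ = r₁ := by
    rcases hav with e | e <;> rw [e]
    · exact hrf
    · rw [rf_neg]; exact hrf
  have hl : Lift D d ρ (a * y₀ * a) r₁ := by
    refine ⟨L.far_conj ha h₀.1, ?_⟩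
    rw [← e1]
    rcases h₀.2 with e | e <;> rcases L.rho_conj ha h₀.1 with e' | e' <;>
      simp [e, e', rf_neg_arg]
  have hy₁ : y₁ = a * y₀ * a := by
    rcases L.fibre hl.1 h₁.1 (rho_pm hl h₁ (Or.inl rfl)) with e | e
    · exact e
    · exact absurd (e ▸ L.commute_flip ha h₀.1 hay₀) hnc
  have hback : a * (a * y * a) * a = y := by
    simp [mul_assoc, mul_self hs ha.1, mul_self_mul hs ha.1]
  by_cases hrv : polar Q (ψ (f a)) r = 0
  · have hay : Commute a y := ((L.rho y hy.1).2.2 a ha).2 ((hy.zero_iff' _).1 hrv)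
    have e2 : polar Q r₁ r = polar Q r₀ r := by rw [← e1, rf_symm, rf_of_perp hrv]
    unfold Agree at a0 ⊢
    rw [e2, ← a0, hy₁]
    have e3 : a * y * a = y := by rw [hay.eq, mul_assoc, mul_self hs ha.1, mul_one]
    have h' := commute_conj_iff a y₀ y
    rw [inv_eq hs ha.1, e3] at h'
    exact h'
  · have hay : ¬ Commute a y := fun h => hrv ((hy.zero_iff' _).2 (((L.rho y hy.1).2.2 a ha).1 h))
    have hr0v : polar Q r₀ (ψ (f a)) ≠ 0 := by
      rw [bcomm, Ne, h₀.zero_iff', ← (L.rho y₀ h₀.1).2.2 a ha]; exact hay₀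
    have e2 : polar Q r₁ r = polar Q r₀ r - c * polar Q (ψ (f a)) r * polar Q r₀ (ψ (f a)) := by
      rw [← e1, rf_symm, rf_right]
    have key : ∀ c x p q : ZMod 3, c ≠ 0 → x ≠ 0 → p ≠ 0 → q ≠ 0 → x - c * p * q ≠ 0 →
        (x - c * p * q = c ↔ ¬ x = c) := by decide
    rw [e2] at n1
    have iff1 := key c _ _ _ hc n0 hrv hr0v n1
    unfold Agree at a0 ⊢
    rw [e2, iff1, ← a0]
    have hthird : a = y₀ * y₁ * y₀ := by
      rw [hy₁, ← braid hs h₀.1.1 ha.1 fun h => hay₀ h.symm]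
      simp [mul_assoc, mul_self hs h₀.1.1, mul_self_mul hs h₀.1.1]
    constructor
    · intro h hh
      exact hay (by rw [hthird]; exact ((hh.symm.mul_right h.symm).mul_right hh.symm).symm)
    · intro h
      by_contra h'
      have n1' : polar Q r₁ r ≠ 0 := e2 ▸ n1
      have q0 : Commute y₀ (d * y * d) := (h₀.comm_flip L hy n0).2 h
      have q1 : Commute y₁ (d * y * d) := (h₁.comm_flip L hy n1').2 h'
      have q : Commute a (d * y * d) := by
        rw [hthird]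
        exact ((q0.symm.mul_right q1.symm).mul_right q0.symm).symm
      refine hay ?_
      have e3 : d * a * d = a := by rw [ha.2.2.eq, mul_assoc, mul_self hs L.chart.mem, mul_one]
      have := (commute_conj_iff d a (d * y * d)).2 q
      rwa [inv_eq hs L.chart.mem, e3, L.flip_flip] at this

/-- `r` is the vector of `y` consistent with the base pair `(c₀, r₀)`. -/
def Good' (Q : QuadraticForm (ZMod 3) V) (c : ZMod 3) (D : Set G) (d : G) (ρ : G → V) (c₀ : G)
    (r₀ : V) (y : G) (r : V) : Prop :=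
  Lift D d ρ y r ∧ ∃ x s, Lift D d ρ x s ∧ polar Q r₀ s ≠ 0 ∧ polar Q r s ≠ 0 ∧
    Agree Q c c₀ r₀ x s ∧ Agree Q c x s y r

theorem exists_lift {r : V} (h0 : r ≠ 0) (h1 : Q r = 0) : ∃ y, Lift D d ρ y r := by
  obtain ⟨y, hy, e⟩ := L.surj h0 h1
  exact ⟨y, hy, e⟩

theorem exists_agree {y : G} {r : V} (hy : Lift D d ρ y r) {s : V} (hs : Q s = 0)
    (h : polar Q r s ≠ 0) : ∃ x, Lift D d ρ x s ∧ Agree Q c y r x s := by
  obtain ⟨x, hx⟩ := exists_lift L (r := s) (fun e => h (by rw [e, bzero])) hs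
  by_cases a : Agree Q c y r x s
  · exact ⟨x, hx, a⟩
  · refine ⟨d * x * d, by simpa using (hx.neg.flip L), ?_⟩
    have hn : polar Q r (-s) ≠ 0 := by rwa [polar_neg_right, Ne, neg_eq_zero]
    have := (Agree.flip_right L hy hx.neg hn).2 ((agree_neg L.pts.ne h).2 a)
    rwa [neg_neg] at this

variable {c₀ : G} {r₀ : Fin n → ZMod 3}
variable (h₀ : Lift D d ρ c₀ r₀)
include h₀

/-- Consistency does not depend on the intermediate member. -/
theorem Good'.spec {y : G} {r : V} (hg : Good' Q c D d ρ c₀ r₀ y r) {z : G} {t : V}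
    (hz : Lift D d ρ z t) (n0 : polar Q r₀ t ≠ 0) (nr : polar Q r t ≠ 0)
    (a : Agree Q c c₀ r₀ z t) : Agree Q c z t y r := by
  obtain ⟨hy, x, s, hx, hxn0, hxnr, hxa, hxy⟩ := hg
  have hc := L.pts.ne
  by_cases hr : polar Q r₀ r = 0
  swap
  · have a0 : Agree Q c c₀ r₀ y r :=
      triangle L hx h₀ hy (by rwa [bcomm]) (by rwa [bcomm]) hr hxa.symm hxy
    exact triangle L h₀ hz hy n0 hr (by rwa [bcomm]) a a0
  by_cases hm : r ∈ Submodule.span (ZMod 3) ({r₀} : Set V)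
  · rcases of_mem_line (hy.iso L).1 hm with e | e
    · rcases L.fibre h₀.1 hy.1 (rho_pm h₀ hy (of_mem_line (hy.iso L).1 hm)) with k | k
      · rw [k, e]; exact a.symm
      · exfalso
        rw [k, e] at hxy
        rw [show r₀ = - -r₀ from (neg_neg _).symm] at hxy
        rw [Agree.flip_right L hx h₀.neg (by rwa [polar_neg_right, Ne, neg_eq_zero, bcomm]),
          agree_neg hc (by rwa [bcomm])] at hxy
        exact hxy hxa.symm
    · rcases L.fibre h₀.1 hy.1 (rho_pm h₀ hy (of_mem_line (hy.iso L).1 hm)) with k | k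
      · exfalso
        rw [k, e, agree_neg hc (by rwa [bcomm])] at hxy
        exact hxy hxa.symm
      · rw [k, e, Agree.flip_right L hz h₀ (by rwa [bcomm])]; exact a.symm
  -- non-orthogonal steps keep consistency
  have step : ∀ {x s z t}, Lift D d ρ x s → Lift D d ρ z t → polar Q r₀ s ≠ 0 → polar Q r₀ t ≠ 0 →
      polar Q r s ≠ 0 → polar Q r t ≠ 0 → polar Q s t ≠ 0 → Agree Q c c₀ r₀ x s →
      Agree Q c c₀ r₀ z t → Agree Q c x s y r → Agree Q c z t y r := by
    intro x s z t hx hz p0 q0 pr qr pq ax az axy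
    exact triangle L hx hz hy pq (by rwa [bcomm]) (by rwa [bcomm])
      (triangle L h₀ hx hz p0 q0 pq ax az) axy
  obtain ⟨r₀0, r₀Q⟩ := h₀.iso L
  obtain ⟨-, rQ⟩ := hy.iso L
  have hr' := not_mem_symm r₀0 hm
  let u : V → V := fun x => polar Q r x • r₀ + (-polar Q r₀ x) • r
  have hu : ∀ x, Q (u x) = 0 ∧ polar Q r₀ (u x) = 0 ∧ polar Q r (u x) = 0 ∧ polar Q (u x) x = 0 := by
    intro x
    simp only [u]
    refine ⟨?_, ?_, ?_, ?_⟩
    · rw [qadd, qsmul, qsmul, r₀Q, rQ, bsmul_left, bsmul_right, hr]; ring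
    · rw [polar_add_right, bsmul_right, bsmul_right, b_iso r₀Q, hr]; ring
    · rw [polar_add_right, bsmul_right, bsmul_right, b_iso rQ, bcomm r r₀, hr]; ring
    · rw [polar_add_left, bsmul_left, bsmul_left]; ring
  have htrans : ∀ (x : V) (t : ZMod 3), Q x = 0 →
      Q (x + t • u x) = 0 ∧ polar Q r₀ (x + t • u x) = polar Q r₀ x ∧
        polar Q r (x + t • u x) = polar Q r x := by
    intro x t hx
    obtain ⟨u1, u2, u3, u4⟩ := hu x
    refine ⟨?_, ?_, ?_⟩
    · rw [q_trans u1, hx, bcomm, u4]; ring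
    · rw [b_trans_right, u2]; ring
    · rw [b_trans_right, u3]; ring
  -- two orthogonal ones of the same sheet are joined through the other sheet
  have sheet : ∀ {x s z t}, Lift D d ρ x s → Lift D d ρ z t → polar Q r₀ s ≠ 0 → polar Q r₀ t ≠ 0 →
      polar Q r s ≠ 0 → polar Q r t ≠ 0 → polar Q r s * polar Q r₀ t = polar Q r₀ s * polar Q r t →
      Agree Q c c₀ r₀ x s → Agree Q c c₀ r₀ z t → Agree Q c x s y r → Agree Q c z t y r := by
    intro x s z t hx hz p0 q0 pr qr hsame ax az axy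
    obtain ⟨w, hw, hw0, hwr⟩ := exists_iso_two L.pts.nondeg r₀Q hr hr' hm
      (a := polar Q r₀ s) (b := -polar Q r s) p0
    obtain ⟨k, k1, k2⟩ : ∃ k : ZMod 3, polar Q s (w + k • u w) ≠ 0 ∧ polar Q t (w + k • u w) ≠ 0 := by
      have e : ∀ x, polar Q x (u w) = polar Q r w * polar Q r₀ x - polar Q r₀ w * polar Q r x := by
        intro x
        simp only [u]
        rw [polar_add_right, bsmul_right, bsmul_right, bcomm x r₀, bcomm x r]; ring
      have sel : ∀ p q a b : ZMod 3, a ≠ 0 → b ≠ 0 → ∃ k, p + k * a ≠ 0 ∧ q + k * b ≠ 0 := by decide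
      simp only [b_trans_right, e, hw0, hwr]
      have two : ∀ a b : ZMod 3, a ≠ 0 → b ≠ 0 → -b * a - a * b ≠ 0 := by decide
      refine sel _ _ _ _ (two _ _ p0 pr) ?_
      have two' : ∀ a b a' b' : ZMod 3, a ≠ 0 → b ≠ 0 → a' ≠ 0 → b * a' = a * b' →
          -b * a' - a * b' ≠ 0 := by decide
      exact two' _ _ _ _ p0 pr q0 hsame
    obtain ⟨w1, w2, w3⟩ := htrans w k hw
    have n0' : polar Q r₀ (w + k • u w) ≠ 0 := by rw [w2, hw0]; exact p0
    have nr' : polar Q r (w + k • u w) ≠ 0 := by rw [w3, hwr]; exact neg_ne_zero.2 pr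
    obtain ⟨m, hm', am⟩ := exists_agree L h₀ w1 n0'
    exact step hm' hz n0' q0 nr' qr (by rwa [bcomm]) am az
      (step hx hm' p0 n0' pr nr' k1 ax am axy)
  by_cases hperp : polar Q s t = 0
  swap
  · exact step hx hz hxn0 n0 hxnr nr hperp hxa a hxy
  by_cases hsame : polar Q r s * polar Q r₀ t = polar Q r₀ s * polar Q r t
  · exact sheet hx hz hxn0 n0 hxnr nr hsame hxa a hxy
  obtain ⟨-, tQ⟩ := hz.iso L
  obtain ⟨w1, w2, w3⟩ := htrans t 1 tQ
  have n0' : polar Q r₀ (t + (1 : ZMod 3) • u t) ≠ 0 := by rw [w2]; exact n0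
  have nr' : polar Q r (t + (1 : ZMod 3) • u t) ≠ 0 := by rw [w3]; exact nr
  have ns : polar Q s (t + (1 : ZMod 3) • u t) ≠ 0 := by
    intro e
    apply hsame
    simp only [u] at e
    rw [b_trans_right, hperp, polar_add_right, bsmul_right, bsmul_right, bcomm s r₀, bcomm s r] at e
    linear_combination -e
  obtain ⟨m, hm', am⟩ := exists_agree L h₀ w1 n0'
  refine sheet hm' hz n0' n0 nr' nr ?_ am a (step hx hm' hxn0 n0' hxnr nr' ns hxa am hxy)
  rw [w2, w3]; ring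

/-- Exactly one of the two vectors of `y` is consistent. -/
theorem exists_good {y : G} (hy : y ∈ far D d) :
    ∃ r, Good' Q c D d ρ c₀ r₀ y r ∧ ¬ Good' Q c D d ρ c₀ r₀ y (-r) := by
  have hc := L.pts.ne
  obtain ⟨r₀0, r₀Q⟩ := h₀.iso L
  obtain ⟨y0, yQ, -⟩ := L.rho y hy
  obtain ⟨s, hs, hs0, hsr⟩ : ∃ s, Q s = 0 ∧ polar Q r₀ s ≠ 0 ∧ polar Q (ρ y) s ≠ 0 := by
    by_cases hm : ρ y ∈ Submodule.span (ZMod 3) ({r₀} : Set V)
    · obtain ⟨a, ha⟩ := CfsgLib.Orth.exists_polar_eq_one L.pts.nondeg r₀0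
      have hs : polar Q r₀ (a + (-Q a) • r₀) = 1 := by rw [b_trans_right, ha, b_iso r₀Q]; ring
      refine ⟨a + (-Q a) • r₀, by rw [q_trans r₀Q, bcomm a r₀, ha]; ring, ?_, ?_⟩
      · rw [hs]; exact one_ne_zero
      · rw [Ne, polar_zero_iff (of_mem_line y0 hm), hs]; exact one_ne_zero
    by_cases h : polar Q r₀ (ρ y) = 0
    · obtain ⟨x, hx, -, h1, h2⟩ := exists_iso_perp L.pts.nondeg hc (u := 0) (Or.inl rfl) r₀Q
        (by rw [bcomm]; exact bzero _) (by rw [bcomm]; exact bzero _) h (not_mem_symm r₀0 hm) hm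
      exact ⟨x, hx, h1, h2⟩
    · set β := polar Q r₀ (ρ y) with hβ
      have hβ' : polar Q (ρ y) r₀ = β := bcomm _ _
      have hy' : Q (r₀ + ρ y) = β := by rw [qadd, r₀Q, yQ]; ring
      have hx0 : r₀ - ρ y ≠ 0 := fun e => h (by rw [hβ, ← sub_eq_zero.1 e, b_iso r₀Q])
      have hxy : polar Q (r₀ - ρ y) (r₀ + ρ y) = 0 := by
        rw [polar_sub_left, polar_add_right, polar_add_right, b_iso r₀Q, b_iso yQ, hβ', ← hβ]; ring
      obtain ⟨p, hp1, hp2, hp⟩ := CfsgLib.Orth.exists_ortho_value L.pts.nondeg (by decide)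
        (by simpa using L.five) hx0 (by rwa [hy']) hxy (-β)
      rw [polar_sub_left] at hp1
      rw [polar_add_left] at hp2
      have two : ∀ u v : ZMod 3, u - v = 0 → u + v = 0 → u = 0 ∧ v = 0 := by decide
      obtain ⟨q1, q2⟩ := two _ _ hp1 hp2
      refine ⟨r₀ + ρ y + p, ?_, ?_, ?_⟩
      · rw [qadd, hy', hp, polar_add_left, q1, q2]; ring
      · rw [polar_add_right, polar_add_right, b_iso r₀Q, q1, ← hβ, zero_add, add_zero]; exact h
      · rw [polar_add_right, polar_add_right, b_iso yQ, q2, hβ', add_zero, add_zero]; exact h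
  obtain ⟨x, hx, ax⟩ := exists_agree L h₀ hs hs0
  have hl : Lift D d ρ y (ρ y) := ⟨hy, Or.inl rfl⟩
  have excl : ∀ r, Lift D d ρ y r → polar Q r s ≠ 0 → Good' Q c D d ρ c₀ r₀ y r →
      ¬ Good' Q c D d ρ c₀ r₀ y (-r) := by
    intro r _ hrs hg hg'
    have a1 := hg.spec L h₀ hx hs0 hrs ax
    have a2 := hg'.spec L h₀ hx hs0 (by rwa [polar_neg_left, Ne, neg_eq_zero]) ax
    exact (agree_neg hc (by rwa [bcomm])).1 a2 a1
  by_cases a : Agree Q c x s y (ρ y)
  · exact ⟨ρ y, ⟨hl, x, s, hx, hs0, hsr, ax, a⟩,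
      excl _ hl hsr ⟨hl, x, s, hx, hs0, hsr, ax, a⟩⟩
  · have hn : polar Q (-ρ y) s ≠ 0 := by rwa [polar_neg_left, Ne, neg_eq_zero]
    have hg : Good' Q c D d ρ c₀ r₀ y (-ρ y) :=
      ⟨hl.neg, x, s, hx, hs0, hn, ax, (agree_neg hc (by rwa [bcomm])).2 a⟩
    exact ⟨-ρ y, hg, excl _ hl.neg hn hg⟩

end CfsgLib.ThreeTrans.Classif.FromRefl
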