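import Mathlib
import Cfsg.Agent.Lib.ThreeTrans.Classif.FromRefl.Sign
import Cfsg.Agent.Lib.ThreeTrans.Classif.FromRefl.Graph

/-!
A class over three elements with a member whose chart is a reflection class is one of reflections one
dimension higher.
-/

set_option autoImplicit false
set_option maxHeartbeats 400000

namespace CfsgLib.ThreeTrans.Classif.FromRefl

open QuadraticMap
open CfsgLib.ThreeTrans
open CfsgLib.ThreeTrans.LocalSymThree (nbr nbr_symm)

universe u v

section Form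

variable {n : ℕ}

/-- The orthogonal sum of `Q` and a line of norm `c`. -/
noncomputable def extForm (Q : QuadraticForm (ZMod 3) (Fin n → ZMod 3)) (c : ZMod 3) :
    QuadraticForm (ZMod 3) (Fin (n + 1) → ZMod 3) :=
  Q.comp (LinearMap.funLeft (ZMod 3) (ZMod 3) Fin.castSucc) +
    c • QuadraticMap.proj (Fin.last n) (Fin.last n)

variable (Q : QuadraticForm (ZMod 3) (Fin n → ZMod 3)) (c : ZMod 3)

theorem ext_apply (x : Fin (n + 1) → ZMod 3) :
    extForm Q c x = Q (Fin.init x) + c * (x (Fin.last n) * x (Fin.last n)) := by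
  simp only [extForm, QuadraticMap.add_apply, QuadraticMap.comp_apply, QuadraticMap.smul_apply,
    QuadraticMap.proj_apply, smul_eq_mul]
  rfl

theorem ext_snoc (v : Fin n → ZMod 3) (t : ZMod 3) :
    extForm Q c (Fin.snoc v t) = Q v + c * (t * t) := by
  rw [ext_apply, Fin.init_snoc, Fin.snoc_last]

theorem snoc_add (v w : Fin n → ZMod 3) (s t : ZMod 3) :
    (Fin.snoc v s + Fin.snoc w t : Fin (n + 1) → ZMod 3) = Fin.snoc (v + w) (s + t) := by
  funext i
  refine Fin.lastCases ?_ ?_ i <;> simp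

theorem snoc_neg (v : Fin n → ZMod 3) (s : ZMod 3) :
    -(Fin.snoc v s : Fin (n + 1) → ZMod 3) = Fin.snoc (-v) (-s) := by
  funext i
  refine Fin.lastCases ?_ ?_ i <;> simp

theorem polar_snoc (v w : Fin n → ZMod 3) (s t : ZMod 3) :
    polar (extForm Q c) (Fin.snoc v s) (Fin.snoc w t) = polar Q v w + 2 * c * (s * t) := by
  simp only [polar, snoc_add, ext_snoc]
  ring

theorem ext_det : Cfsg.polarGramDet ⇑(extForm Q c) = Cfsg.polarGramDet ⇑Q * (2 * c) := by
  unfold Cfsg.polarGramDet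
  rw [Matrix.det_succ_row _ (Fin.last n), Finset.sum_eq_single (Fin.last n)]
  · have h0 : ∀ i : Fin n, (Pi.single (Fin.castSucc i) 1 : Fin (n + 1) → ZMod 3) =
        Fin.snoc (Pi.single i 1) 0 := fun i => by
      funext j
      refine Fin.lastCases ?_ ?_ j
      · simp [Fin.castSucc_lt_last i |>.ne']
      · intro k; simp [Pi.single_apply]
    have h1 : (Pi.single (Fin.last n) 1 : Fin (n + 1) → ZMod 3) = Fin.snoc 0 1 := by
      funext j
      refine Fin.lastCases ?_ ?_ j
      · simp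
      · intro k; simp [(Fin.castSucc_lt_last k).ne]
    rw [Matrix.of_apply, h1, polar_snoc, bzero, Fin.succAbove_last, Fin.val_last,
      Even.neg_one_pow ⟨n, rfl⟩]
    rw [show (Matrix.of fun i j : Fin (n + 1) =>
        polar (extForm Q c) (Pi.single i 1) (Pi.single j 1)).submatrix Fin.castSucc Fin.castSucc =
        Matrix.of fun i j : Fin n => polar Q (Pi.single i 1) (Pi.single j 1) by
      ext i j
      simp [h0, polar_snoc]]
    ring
  · intro j _ hj
    obtain ⟨k, rfl⟩ := Fin.exists_castSucc_eq.2 hj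
    have h0 : (Pi.single (Fin.castSucc k) 1 : Fin (n + 1) → ZMod 3) =
        Fin.snoc (Pi.single k 1) 0 := by
      funext j
      refine Fin.lastCases ?_ ?_ j
      · simp [Fin.castSucc_lt_last k |>.ne']
      · intro i; simp [Pi.single_apply]
    have h1 : (Pi.single (Fin.last n) 1 : Fin (n + 1) → ZMod 3) = Fin.snoc 0 1 := by
      funext j
      refine Fin.lastCases ?_ ?_ j
      · simp
      · intro i; simp [(Fin.castSucc_lt_last i).ne]
    rw [Matrix.of_apply, h0, h1, polar_snoc, bcomm, bzero]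
    ring
  · intro h; exact absurd (Finset.mem_univ _) h

theorem nondeg_iff_det :
    (QuadraticMap.polarBilin Q).Nondegenerate ↔ Cfsg.polarGramDet ⇑Q ≠ 0 := by
  refine (LinearMap.BilinForm.nondegenerate_iff_det_ne_zero (Pi.basisFun (ZMod 3) (Fin n))).trans ?_
  refine Iff.of_eq (congrArg (fun t => t ≠ 0) (congrArg Matrix.det (Matrix.ext fun i j => ?_)))
  rw [BilinForm.toMatrix_apply]
  simp

end Form

variable {G : Type u} [Group G] [Finite G] {D : Set G} {d : G} {Y : Type v} [Group Y] {E : Set Y}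
  {f : G → Y} {n : ℕ} {Q : QuadraticForm (ZMod 3) (Fin n → ZMod 3)} {c : ZMod 3}
  {ψ : Y → Fin n → ZMod 3} {ρ : G → Fin n → ZMod 3}

local notation "V" => Fin n → ZMod 3

omit [Finite G] in
theorem mem_d_or {d : G} (hd : d ∈ D) {a : G} (ha : a ∈ D) : a = d ∨ a ∈ nbr D d ∨ a ∈ far D d := by
  have h := (split_at (D := D) hd).le ha
  rcases h with (h | h) | h
  exacts [Or.inl h, Or.inr (Or.inl h), Or.inr (Or.inr h)]

/-- A class with isotropic vectors for the members not commuting with `d` is one of reflections one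
dimension higher. -/
theorem Based.extend (L : Based D d f E Q c ψ ρ) :
    ∃ (Q' : QuadraticForm (ZMod 3) (Fin (n + 1) → ZMod 3)) (ψ' : G → Fin (n + 1) → ZMod 3),
      (QuadraticMap.polarBilin Q').Nondegenerate ∧
      Cfsg.polarGramDet ⇑Q' = Cfsg.polarGramDet ⇑Q * (2 * c) ∧ KindRefl D Q' c ∧ ReflPts D Q' c ψ' := by
  classical
  have hc := L.pts.ne
  have hd := L.chart.mem
  obtain ⟨c₀, hc₀, hdc⟩ := exists_not_commute L.good.set.hD.gen L.closed L.good.set.hD.class_eq
    L.good.set.hD.two hd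
  have h₀ : Lift D d ρ c₀ (ρ c₀) := ⟨⟨hc₀, hdc⟩, Or.inl rfl⟩
  have hex := fun y (hy : y ∈ far D d) => exists_good L h₀ hy
  choose! σ hσ hσ' using hex
  have hlift : ∀ y ∈ far D d, Lift D d ρ y (σ y) := fun y hy => (hσ y hy).1
  -- the two members over one point get opposite vectors
  have hflip : ∀ y ∈ far D d, σ (d * y * d) = -σ y := by
    intro y hy
    obtain ⟨hl, x, s, hx, hs0, hsr, ax, axy⟩ := hσ y hy
    have hfy := L.far_flip hy
    have hg : Good' Q c D d ρ c₀ (ρ c₀) (d * y * d) (-σ y) :=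
      ⟨hl.flip L, x, s, hx, hs0, by rwa [polar_neg_left, Ne, neg_eq_zero], ax,
        (Agree.flip_right L hx hl (by rwa [bcomm])).2 axy⟩
    rcases (hl.flip L).pm (hlift _ hfy) with e | e
    · exact e
    · refine absurd hg ?_
      have := hσ' _ hfy
      rwa [e, neg_neg] at this
  -- commuting is having inner product `c`
  have hagree : ∀ y ∈ far D d, ∀ z ∈ far D d, polar Q (σ y) (σ z) ≠ 0 →
      Agree Q c y (σ y) z (σ z) := by
    have hbase : ∀ y ∈ far D d, polar Q (ρ c₀) (σ y) ≠ 0 → Agree Q c c₀ (ρ c₀) y (σ y) := by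
      intro y hy h
      obtain ⟨hl, x, s, hx, hs0, hsr, ax, axy⟩ := hσ y hy
      exact triangle L hx h₀ hl (by rwa [bcomm]) (by rwa [bcomm]) h ax.symm axy
    intro y hy z hz h
    have h' : polar Q (σ z) (σ y) ≠ 0 := by rwa [bcomm]
    by_cases py : polar Q (ρ c₀) (σ y) = 0
    swap
    · exact ((hσ z hz).spec L h₀ (hlift y hy) py h' (hbase y hy py))
    by_cases pz : polar Q (ρ c₀) (σ z) = 0
    swap
    · exact ((hσ y hy).spec L h₀ (hlift z hz) pz h (hbase z hz pz)).symm
    obtain ⟨r0, rQ⟩ := h₀.iso L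
    obtain ⟨x, hx, x0, xy, xz⟩ := exists_iso_three L.pts.nondeg rQ ((hlift y hy).iso L).2
      ((hlift z hz).iso L).2 r0 py pz h
    obtain ⟨m, hm, am⟩ := exists_agree L h₀ hx x0
    exact triangle L hm (hlift y hy) (hlift z hz) (by rwa [bcomm]) (by rwa [bcomm]) h
      ((hσ y hy).spec L h₀ hm x0 xy am) ((hσ z hz).spec L h₀ hm x0 xz am)
  -- the vectors
  let η : G → Fin (n + 1) → ZMod 3 := fun a =>
    if a = d then Fin.snoc 0 1 else if a ∈ nbr D d then Fin.snoc (ψ (f a)) 0 else Fin.snoc (σ a) 1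
  have ηd : η d = Fin.snoc 0 1 := if_pos rfl
  have ηn : ∀ a ∈ nbr D d, η a = Fin.snoc (ψ (f a)) 0 := fun a ha => by
    simp only [η, if_neg ha.2.1, if_pos ha]
  have ηf : ∀ a ∈ far D d, η a = Fin.snoc (σ a) 1 := fun a ha => by
    have h1 : a ≠ d := fun e => ha.2 (e ▸ Commute.refl a)
    have h2 : a ∉ nbr D d := fun h => ha.2 h.2.2
    simp only [η, if_neg h1, if_neg h2]
  have k2 : ∀ c b : ZMod 3, c ≠ 0 → (b + 2 * c * (1 * 1) = 0 ↔ b = c) := by decide
  have hsig0 : ∀ y ∈ far D d, σ y ≠ 0 := fun y hy => ((hlift y hy).iso L).1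
  have hnorm : ∀ a ∈ D, extForm Q c (η a) = c := by
    intro a ha
    rcases mem_d_or hd ha with rfl | h | h
    · rw [ηd, ext_snoc, QuadraticMap.map_zero]; ring
    · rw [ηn a h, ext_snoc, L.norm h]; ring
    · rw [ηf a h, ext_snoc, ((hlift a h).iso L).2]; ring
  have hcomm : ∀ a ∈ D, ∀ b ∈ D,
      (Commute a b ↔ a = b ∨ polar (extForm Q c) (η a) (η b) = 0) := by
    have sym : ∀ {a b}, (Commute a b ↔ a = b ∨ polar (extForm Q c) (η a) (η b) = 0) →
        (Commute b a ↔ b = a ∨ polar (extForm Q c) (η b) (η a) = 0) := by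
      intro a b h
      rw [Commute.symm_iff, eq_comm, polar_comm]; exact h
    have h2c : 2 * c ≠ 0 := mul_ne_zero (by decide) hc
    have dn : ∀ b ∈ nbr D d, (Commute d b ↔ d = b ∨ polar (extForm Q c) (η d) (η b) = 0) :=
      fun b hb => iff_of_true hb.2.2 (Or.inr (by rw [ηd, ηn b hb, polar_snoc, bcomm, bzero]; ring))
    have df : ∀ b ∈ far D d, (Commute d b ↔ d = b ∨ polar (extForm Q c) (η d) (η b) = 0) := by
      refine fun b hb => iff_of_false hb.2 ?_
      rintro (e | e)
      · exact hb.2 (e ▸ Commute.refl d)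
      · rw [ηd, ηf b hb, polar_snoc, bcomm, bzero, zero_add, one_mul, mul_one] at e
        exact h2c e
    have nf : ∀ a ∈ nbr D d, ∀ b ∈ far D d,
        (Commute a b ↔ a = b ∨ polar (extForm Q c) (η a) (η b) = 0) := by
      intro a ha b hb
      rw [ηn a ha, ηf b hb, polar_snoc, zero_mul, mul_zero, add_zero,
        (hlift b hb).zero_iff' (ψ (f a)), (L.rho b hb).2.2 a ha]
      exact ⟨Or.inr, fun h => h.resolve_left fun e => hb.2 (e ▸ ha.2.2)⟩
    intro a ha b hb
    rcases mem_d_or hd ha with ha | ha | ha <;> rcases mem_d_or hd hb with hb | hb | hb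
    · rw [ha, hb]; exact iff_of_true (Commute.refl d) (Or.inl rfl)
    · rw [ha]; exact dn b hb
    · rw [ha]; exact df b hb
    · rw [hb]; exact sym (dn a ha)
    · rw [ηn a ha, ηn b hb, polar_snoc, zero_mul, mul_zero, add_zero]; exact L.vcomm ha hb
    · exact nf a ha b hb
    · rw [hb]; exact sym (df a ha)
    · exact sym (nf b hb a ha)
    · rw [ηf a ha, ηf b hb, polar_snoc, k2 c _ hc]
      by_cases e : a = b
      · exact iff_of_true (e ▸ Commute.refl a) (Or.inl e)
      simp only [e, false_or]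
      by_cases h : polar Q (σ a) (σ b) = 0
      · refine iff_of_false (L.not_commute_of_perp ha hb (Ne.symm e) ?_) ?_
        · rwa [← (hlift a ha).zero_iff, ← (hlift b hb).zero_iff']
        · rw [h]; exact hc.symm
      · exact hagree a ha b hb h
  have hsinj : ∀ a ∈ far D d, ∀ b ∈ far D d, σ a = σ b → a = b := by
    intro a ha b hb e
    rcases L.fibre ha hb (rho_pm (hlift a ha) (hlift b hb) (Or.inl e.symm)) with k | k
    · exact k.symm
    · exfalso
      rw [k, hflip a ha] at e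
      exact hsig0 a ha (funext fun i => by
        have key : ∀ x : ZMod 3, x = -x → x = 0 := by decide
        exact key _ (congrFun e i))
  have hinj : ∀ a ∈ D, ∀ b ∈ D, (η a = η b ∨ η a = -η b) → a = b := by
    have key : ∀ {v w : V} {s t : ZMod 3}, ((Fin.snoc v s : Fin (n + 1) → ZMod 3) = Fin.snoc w t ∨
        (Fin.snoc v s : Fin (n + 1) → ZMod 3) = -Fin.snoc w t) →
        (v = w ∧ s = t) ∨ (v = -w ∧ s = -t) := by
      intro v w s t h
      rw [snoc_neg] at h
      exact h.imp Fin.snoc_inj.1 Fin.snoc_inj.1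
    intro a ha b hb h
    rcases mem_d_or hd ha with ha | ha | ha <;> rcases mem_d_or hd hb with hb | hb | hb
    · rw [ha, hb]
    · rw [ha, ηd, ηn b hb] at h
      rcases key h with ⟨e, -⟩ | ⟨e, -⟩
      · exact absurd e.symm (ne_zero_of_norm hc (L.norm hb))
      · exact absurd (neg_eq_zero.1 e.symm) (ne_zero_of_norm hc (L.norm hb))
    · rw [ha, ηd, ηf b hb] at h
      rcases key h with ⟨e, -⟩ | ⟨e, -⟩
      · exact absurd e.symm (hsig0 b hb)
      · exact absurd (neg_eq_zero.1 e.symm) (hsig0 b hb)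
    · rw [hb, ηd, ηn a ha] at h
      rcases key h with ⟨e, -⟩ | ⟨e, -⟩
      · exact absurd e (ne_zero_of_norm hc (L.norm ha))
      · exact absurd (e.trans neg_zero) (ne_zero_of_norm hc (L.norm ha))
    · rw [ηn a ha, ηn b hb] at h
      exact L.vinj ha hb ((key h).imp And.left And.left)
    · rw [ηn a ha, ηf b hb] at h
      rcases key h with ⟨-, e⟩ | ⟨-, e⟩ <;> exact absurd e (by decide)
    · rw [hb, ηd, ηf a ha] at h
      rcases key h with ⟨e, -⟩ | ⟨e, -⟩
      · exact absurd e (hsig0 a ha)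
      · exact absurd (e.trans neg_zero) (hsig0 a ha)
    · rw [ηf a ha, ηn b hb] at h
      rcases key h with ⟨-, e⟩ | ⟨-, e⟩ <;> exact absurd e (by decide)
    · rw [ηf a ha, ηf b hb] at h
      rcases key h with ⟨e, -⟩ | ⟨-, e⟩
      · exact hsinj a ha b hb e
      · exact absurd e (by decide)
  have hsurj : ∀ z, extForm Q c z = c → ∃ a ∈ D, η a = z ∨ η a = -z := by
    have key : ∀ v : V, Q v = 0 → ∃ a ∈ D, η a = Fin.snoc v 1 := by
      intro v hv
      by_cases h0 : v = 0
      · exact ⟨d, hd, by rw [ηd, h0]⟩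
      obtain ⟨y, hy⟩ := exists_lift L h0 hv
      rcases (hlift y hy.1).pm hy with e | e
      · exact ⟨y, hy.1.1, by rw [ηf y hy.1, e]⟩
      · exact ⟨d * y * d, (L.far_flip hy.1).1, by
          rw [ηf _ (L.far_flip hy.1), hflip y hy.1, e]⟩
    intro z hz
    obtain ⟨v, t, rfl⟩ : ∃ v t, z = Fin.snoc v t := ⟨_, _, (Fin.snoc_init_self z).symm⟩
    rw [ext_snoc] at hz
    rcases three_cases t with rfl | rfl | rfl
    · obtain ⟨a, ha, e, -⟩ := L.vsurj (z := v) (by rwa [mul_zero, mul_zero, add_zero] at hz)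
      refine ⟨a, ha.1, ?_⟩
      rw [ηn a ha, snoc_neg, neg_zero]
      rcases e with e | e <;> rw [e] <;> simp
    · obtain ⟨a, ha, e⟩ := key v (by linear_combination hz)
      exact ⟨a, ha, Or.inl e⟩
    · obtain ⟨a, ha, e⟩ := key (-v) (by rw [QuadraticMap.map_neg]; linear_combination hz)
      exact ⟨a, ha, Or.inr (by rw [e, snoc_neg, neg_neg])⟩
  -- two commuting members commute with both of any non-commuting pair
  have hpair : ∀ a ∈ D, ∀ b ∈ D, ¬ Commute a b →
      ∃ x ∈ nbr D a ∩ nbr D b, ∃ y ∈ nbr D a ∩ nbr D b, x ≠ y ∧ Commute x y := by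
    intro a ha b hb hab
    obtain ⟨g, rfl, rfl⟩ := L.good.set.pairConj_far hd hc₀ ha hb hdc hab
    obtain ⟨r0, rQ⟩ := h₀.iso L
    obtain ⟨x, y, hx, hy, hxy, hrx, hry⟩ := exists_perp_pair L.five L.pts.nondeg hc r0
    obtain ⟨p, hp, -, hpw⟩ := L.vsurj hx
    obtain ⟨q, hq, hqe, hqw⟩ := L.vsurj hy
    have mem : ∀ {p : G} {x : V}, p ∈ nbr D d → polar Q (ρ c₀) x = 0 →
        (∀ w, polar Q (ψ (f p)) w = 0 ↔ polar Q x w = 0) → p ∈ nbr D d ∩ nbr D c₀ := by
      intro p x hp hrx hw
      refine ⟨hp, hp.1, fun e => hdc (e ▸ hp.2.2), ?_⟩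
      exact (((L.rho c₀ h₀.1).2.2 p hp).2 ((hw _).2 (by rw [bcomm]; exact hrx))).symm
    have hpq : p ≠ q := by
      intro e
      have h1 : polar Q (ψ (f p)) (ψ (f q)) = 0 :=
        (hpw _).2 ((polar_zero_iff' hqe).2 hxy)
      rw [← e] at h1
      exact bself_ne hc (L.norm hp) h1
    have hcpq : Commute p q :=
      (L.vcomm hp hq).2 (Or.inr ((hpw _).2 ((polar_zero_iff' hqe).2 hxy)))
    have hinj : Function.Injective fun y : G => g * y * g⁻¹ :=
      fun u w h => mul_left_cancel (mul_right_cancel h)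
    have himg : nbr D (g * d * g⁻¹) ∩ nbr D (g * c₀ * g⁻¹) =
        (fun y => g * y * g⁻¹) '' (nbr D d ∩ nbr D c₀) := by
      rw [InnerTwins.nbr_conj L.closed, InnerTwins.nbr_conj L.closed, Set.image_inter hinj]
    rw [himg]
    exact ⟨_, ⟨p, mem hp hrx hpw, rfl⟩, _, ⟨q, mem hq hry hqw, rfl⟩, hinj.ne hpq,
      (commute_conj_iff g p q).2 hcpq⟩
  have hdet := ext_det Q c
  have hQ' : (QuadraticMap.polarBilin (extForm Q c)).Nondegenerate := by
    rw [nondeg_iff_det, hdet]
    exact mul_ne_zero ((nondeg_iff_det Q).1 L.pts.nondeg) (mul_ne_zero (by decide) hc)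
  obtain ⟨hK, hP⟩ := refl_of_graph L.good hQ' (by have := L.five; omega) hc hnorm hinj hsurj hcomm hpair
  exact ⟨extForm Q c, η, hQ', hdet, hK, hP⟩

end CfsgLib.ThreeTrans.Classif.FromRefl
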