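import Mathlib
import Cfsg.Agent.Lib.ThreeTrans.Classif.MuSet
import Cfsg.Agent.Lib.ThreeTrans.Classif.FromRefl.Points

/-!
The members commuting with two non-commuting members, seen one level down in a reflection class over
three elements, are at each of them cut out by an isotropic vector.
-/

set_option autoImplicit false

namespace CfsgLib.ThreeTrans.Classif.FromRefl

open QuadraticMap
open CfsgLib.ThreeTrans.LocalSymThree (nbr)

universe v

variable {Y : Type v} [Group Y] {E S : Set Y} {n m : ℕ}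
  {Q : QuadraticForm (ZMod 3) (Fin n → ZMod 3)} {c : ZMod 3} {ψ : Y → Fin n → ZMod 3}

local notation "V" => Fin n → ZMod 3

/-- The members orthogonal to `u` and to `r`. -/
def slice (E : Set Y) (Q : QuadraticForm (ZMod 3) V) (ψ : Y → V) (u r : V) : Set Y :=
  {e | e ∈ E ∧ polar Q u (ψ e) = 0 ∧ polar Q (ψ e) r = 0}

theorem slice_le_of_rf (hE : ReflPts E Q c ψ) {u v r : V} (hv : Q v = c) (huv : polar Q u v = 0) :
    (slice E Q ψ u r).ncard ≤ (slice E Q ψ u (rf Q c v r)).ncard := by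
  classical
  have hc := hE.ne
  have hex : ∀ e ∈ E, ∃ e' ∈ E, ψ e' = rf Q c v (ψ e) ∨ ψ e' = -rf Q c v (ψ e) := fun e he =>
    hE.surj _ (by rw [q_rf hc hv, hE.norm e he])
  choose! F hF1 hF2 using hex
  refine Set.ncard_le_ncard_of_injOn F (fun e he => ⟨hF1 e he.1, ?_, ?_⟩) ?_
    ((finite_points hE).subset fun e he => he.1)
  · rw [polar_zero_iff' (hF2 e he.1), rf_right, he.2.1, huv]; ring
  · rw [polar_zero_iff (hF2 e he.1), rf_symm, rf_rf hc hv]; exact he.2.2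
  · intro e he e' he' h
    refine hE.inj e he.1 e' he'.1 (rf_inj hc hv ?_)
    rcases hF2 e he.1 with h1 | h1 <;> rcases hF2 e' he'.1 with h2 | h2 <;>
      rw [h] at h1 <;> rw [h1] at h2
    · exact Or.inl h2
    · exact Or.inr h2
    · exact Or.inr (by rw [← h2, neg_neg])
    · exact Or.inl (neg_injective h2)

omit [Group Y] in
theorem slice_neg (u r : V) : slice E Q ψ u (-r) = slice E Q ψ u r := by
  ext e
  simp [slice, polar_neg_right]

theorem slice_le_of_far (hE : ReflPts E Q c ψ) {u r s : V} (hr : Q r = 0) (hs : Q s = 0)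
    (hur : polar Q u r = 0) (hus : polar Q u s = 0) (h : polar Q r s ≠ 0) :
    (slice E Q ψ u r).ncard ≤ (slice E Q ψ u s).ncard := by
  suffices key : ∀ t : V, Q t = 0 → polar Q u t = 0 → polar Q r t = -c →
      (slice E Q ψ u r).ncard ≤ (slice E Q ψ u t).ncard by
    have dich : ∀ c b : ZMod 3, c ≠ 0 → b ≠ 0 → b = -c ∨ -b = -c := by decide
    rcases dich c _ hE.ne h with e | e
    · exact key s hs hus e
    · rw [← slice_neg u s]
      exact key _ (by rw [QuadraticMap.map_neg, hs]) (by rw [polar_neg_right, hus, neg_zero])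
        (by rw [polar_neg_right, e])
  intro t ht hut e
  obtain ⟨h1, -, h3⟩ := diff_norm hE.ne hr ht e
  have := slice_le_of_rf hE (u := u) (r := r) h1 (by rw [polar_sub_right, hur, hut, sub_zero])
  rwa [h3] at this

theorem slice_le (hE : ReflPts E Q c ψ) {u r s : V} (hu : Q u = c) (hr0 : r ≠ 0) (hr : Q r = 0)
    (hs0 : s ≠ 0) (hs : Q s = 0) (hur : polar Q u r = 0) (hus : polar Q u s = 0) :
    (slice E Q ψ u r).ncard ≤ (slice E Q ψ u s).ncard := by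
  by_cases h : polar Q r s = 0
  swap
  · exact slice_le_of_far hE hr hs hur hus h
  by_cases hm : s ∈ Submodule.span (ZMod 3) ({r} : Set V)
  · rcases of_mem_line hs0 hm with rfl | rfl
    · exact le_rfl
    · rw [slice_neg]
  obtain ⟨x, hx, hux, hrx, hsx⟩ := exists_iso_perp hE.nondeg hE.ne (u := u) (r := r) (s := s)
    (Or.inr hu) hr hur hus h (not_mem_symm hr0 hm) hm
  exact (slice_le_of_far hE hr hx hur hux hrx).trans
    (slice_le_of_far hE hx hs hux hus (by rwa [bcomm]))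

variable (hcl : ∀ x ∈ E, ∀ y ∈ E, x * y * x ∈ E)
  (hE : ReflPts E Q c ψ) (hn : 5 ≤ n) (hS : MuData E S m)
include hcl hE hn hS

/-- At a member of `S` the rest of `S` commuting with it is cut out by an isotropic vector. -/
theorem exists_local {a : Y} (ha : a ∈ S) :
    ∃ r, r ≠ 0 ∧ Q r = 0 ∧ polar Q (ψ a) r = 0 ∧
      S ∩ nbr E a = {e | e ∈ nbr E a ∧ polar Q (ψ e) r = 0} := by
  classical
  have hc := hE.ne
  have haE := hS.sub ha
  obtain ⟨p, hp, hap, θ, hθ, hθc, hθj, hSa⟩ := hS.swap a ha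
  obtain ⟨u, hu'⟩ : ∃ u, u = ψ a := ⟨_, rfl⟩
  have hu : Q u = c := hu' ▸ hE.norm a haE
  have hap' : ¬ (a = p ∨ polar Q u (ψ p) = 0) := hu' ▸ fun h => hap ((hE.comm a haE p hp).2 h)
  set β := polar Q u (ψ p)
  have k1 : ∀ c β : ZMod 3, c ≠ 0 → β - -(c * β) * (2 * c) = 0 := by decide
  have k2 : ∀ c β : ZMod 3, c ≠ 0 → β ≠ 0 →
      c + -(c * β) * -(c * β) * c - -(c * β) * β = 0 := by decide
  set r₀ := ψ p - (-(c * β)) • u with hr₀
  have hur₀ : polar Q u r₀ = 0 := by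
    rw [hr₀, polar_sub_right, bsmul_right, bself, hu]; exact k1 c β hc
  have hQr₀ : Q r₀ = 0 := by
    rw [hr₀, qsub, qsmul, bsmul_right, bcomm (ψ p) u, hE.norm p hp, hu]
    exact k2 c β hc fun h => hap' (Or.inr h)
  have hr₀0 : r₀ ≠ 0 := by
    intro h0
    refine hap' (Or.inl (hE.inj a haE p hp ?_))
    rcases mem_line _ (sub_eq_zero.1 h0) (ne_zero_of_norm hc (hE.norm p hp)) with h | h
    · exact Or.inl (by rw [← hu', h])
    · exact Or.inr (by rw [← hu', h, neg_neg])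
  have hT : nbr E a ∩ nbr E p = slice E Q ψ u r₀ := by
    ext e
    rw [Set.mem_inter_iff, mem_nbr_iff hE haE, mem_nbr_iff hE hp, ← hu']
    show _ ↔ e ∈ E ∧ _
    constructor
    · rintro ⟨⟨he, h1⟩, -, h2⟩
      refine ⟨he, h1, ?_⟩
      rw [hr₀, polar_sub_right, bsmul_right, bcomm (ψ e) (ψ p), h2, bcomm (ψ e) u, h1]; ring
    · rintro ⟨he, h1, h2⟩
      rw [hr₀, polar_sub_right, bsmul_right, bcomm (ψ e) u, h1, mul_zero, sub_zero, bcomm] at h2
      exact ⟨⟨he, h1⟩, he, h2⟩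
  have hin : ∀ {e}, e ∈ slice E Q ψ u r₀ → e ∈ nbr E a := fun he => (hT.ge he).1
  obtain ⟨z, hz, huz, hrz⟩ := exists_perp_one hn hE.nondeg hc hu hr₀0 hur₀
  have hzr : polar Q z r₀ = 0 := by rw [bcomm]; exact hrz
  obtain ⟨x, hx, hxz⟩ := hE.surj z hz
  have hxT : x ∈ slice E Q ψ u r₀ :=
    ⟨hx, (polar_zero_iff' hxz).2 huz, (polar_zero_iff hxz).2 hzr⟩
  have hxr : polar Q (ψ x) r₀ = 0 := hxT.2.2
  have hw : Q (ψ x + r₀) = c := by rw [qadd, hE.norm x hx, hQr₀, hxr]; ring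
  obtain ⟨x₁, hx₁, hx₁w⟩ := hE.surj _ hw
  have hx₁T : x₁ ∈ slice E Q ψ u r₀ := ⟨hx₁,
    (polar_zero_iff' hx₁w).2 (by rw [polar_add_right, hxT.2.1, hur₀, add_zero]),
    (polar_zero_iff hx₁w).2 (by rw [polar_add_left, hxr, b_iso hQr₀, add_zero])⟩
  have hxx₁ne : x₁ ≠ x := by
    rintro rfl
    rcases hx₁w with h | h
    · exact hr₀0 (by simpa using h)
    · have e : r₀ = -(ψ x₁ + ψ x₁) := funext fun i => by
        have hi : ψ x₁ i = -(ψ x₁ i + r₀ i) := congrFun h i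
        show r₀ i = -(ψ x₁ i + ψ x₁ i)
        linear_combination hi
      rw [e, polar_neg_right, polar_add_right, bself, hE.norm _ hx] at hxr
      have kn : ∀ c : ZMod 3, -(2 * c + 2 * c) = 0 → c = 0 := by decide
      exact hc (kn c hxr)
  have hxx₁ : ¬ Commute x x₁ := by
    rw [hE.comm x hx x₁ hx₁]
    rintro (h | h)
    · exact hxx₁ne h.symm
    · rw [polar_zero_iff' hx₁w, polar_add_right, hxr, add_zero] at h
      exact bself_ne hc (hE.norm x hx) h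
  obtain ⟨X, hX'⟩ : ∃ X, X = θ x := ⟨_, rfl⟩
  obtain ⟨X₁, hX₁'⟩ : ∃ X, X = θ x₁ := ⟨_, rfl⟩
  have hXn : X ∈ nbr E a := hX' ▸ hθ.mapsTo (hin hxT)
  have hX₁n : X₁ ∈ nbr E a := hX₁' ▸ hθ.mapsTo (hin hx₁T)
  have hXX₁ : ¬ Commute X X₁ := by
    rw [hX', hX₁', hθc x (hin hxT) x₁ (hin hx₁T)]; exact hxx₁
  rw [hE.comm X hXn.1 X₁ hX₁n.1, not_or] at hXX₁
  obtain ⟨γ, hγ⟩ : ∃ γ, γ = polar Q (ψ X) (ψ X₁) := ⟨_, rfl⟩
  have hγ0 : γ ≠ 0 := hγ ▸ hXX₁.2
  have huX := ((mem_nbr_iff hE haE).1 hXn).2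
  have huX₁ := ((mem_nbr_iff hE haE).1 hX₁n).2
  rw [← hu'] at huX huX₁
  have k3 : ∀ c γ : ZMod 3, c ≠ 0 → γ ≠ 0 →
      -(c * γ) * γ - 2 * c = 0 ∧ c * (-(c * γ) * -(c * γ)) + c - -(c * γ) * γ = 0 := by decide
  set r := (-(c * γ)) • ψ X₁ - ψ X with hr'
  have hXr : polar Q (ψ X) r = 0 := by
    rw [hr', polar_sub_right, bsmul_right, bself, hE.norm X hXn.1, ← hγ]; exact (k3 c γ hc hγ0).1
  have hQr : Q r = 0 := by
    rw [hr', qsub, qsmul, bsmul_left, bcomm (ψ X₁) (ψ X), ← hγ, hE.norm X hXn.1, hE.norm X₁ hX₁n.1]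
    linear_combination (k3 c γ hc hγ0).2
  have hr0 : r ≠ 0 := by
    intro h0
    refine hXX₁.1 (hE.inj X hXn.1 X₁ hX₁n.1 ?_)
    exact mem_line _ (sub_eq_zero.1 h0).symm (ne_zero_of_norm hc (hE.norm X hXn.1))
  have hX₁r : polar Q (ψ X₁) r = 0 := by
    have kc : ∀ c γ : ZMod 3, c ≠ 0 → γ ≠ 0 → -(c * γ) * (2 * c) - γ = 0 := by decide
    rw [hr', polar_sub_right, bsmul_right, bself, bcomm (ψ X₁) (ψ X), ← hγ, hE.norm X₁ hX₁n.1]
    exact kc c γ hc hγ0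
  have hur : polar Q u r = 0 := by
    rw [hr', polar_sub_right, bsmul_right, huX, huX₁]; ring
  obtain ⟨x₂, hx₂'⟩ : ∃ y, y = x * x₁ * x := ⟨_, rfl⟩
  have hx₂E : x₂ ∈ E := hx₂' ▸ hcl x hx x₁ hx₁
  have hx₂ψ := conj_rf hE hx hx₁
  rw [← hx₂'] at hx₂ψ
  have hx₂T : x₂ ∈ slice E Q ψ u r₀ := by
    refine ⟨hx₂E, ?_, ?_⟩
    · rw [polar_zero_iff' hx₂ψ, rf_right, hx₁T.2.1, hxT.2.1]; ring
    · rw [polar_zero_iff hx₂ψ, rf_symm, rf_of_perp hxr, hx₁T.2.2]
  obtain ⟨X₂, hX₂'⟩ : ∃ Z, Z = X * X₁ * X := ⟨_, rfl⟩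
  have hθx₂ : θ x₂ = X₂ := by rw [hx₂', hθj x (hin hxT) x₁ (hin hx₁T), hX₂', hX', hX₁']
  have hX₂n : X₂ ∈ nbr E a := hθx₂ ▸ hθ.mapsTo (hin hx₂T)
  have hX₂ψ := conj_rf hE hXn.1 hX₁n.1
  rw [← hX₂'] at hX₂ψ
  have hsub : S ∩ nbr E a ⊆ slice E Q ψ u r := by
    intro Z hZ
    have hZn := hZ.2
    refine ⟨hZn.1, hu' ▸ ((mem_nbr_iff hE haE).1 hZn).2, ?_⟩
    rw [hSa] at hZ
    obtain ⟨e, he, rfl⟩ := hZ
    rw [hT] at he
    by_cases e1 : e = x
    · rw [e1, ← hX']; exact hXr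
    by_cases e2 : e = x₁
    · rw [e2, ← hX₁']; exact hX₁r
    by_cases e3 : e = x₂
    · rw [e3, hθx₂, polar_zero_iff hX₂ψ, rf_symm, rf_of_perp hXr, hX₁r]
    have tr : ∀ {y Y'}, y ∈ slice E Q ψ u r₀ → θ y = Y' → e ≠ y →
        (polar Q (ψ (θ e)) (ψ Y') = 0 ↔ polar Q (ψ e) (ψ y) = 0) := by
      intro y Y' hy hY hne
      subst hY
      have hne' : θ e ≠ θ y := fun h => hne (hθ.injOn (hin he) (hin hy) h)
      have h := hθc e (hin he) y (hin hy)
      rw [hE.comm _ (hθ.mapsTo (hin he)).1 _ (hθ.mapsTo (hin hy)).1, hE.comm e he.1 y hy.1] at h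
      simpa [hne, hne'] using h
    have t0 := tr hxT hX'.symm e1
    have t1 := tr hx₁T hX₁'.symm e2
    have t2 := tr hx₂T hθx₂ e3
    have h01 : polar Q (ψ e) (ψ x₁) = 0 ↔ polar Q (ψ e) (ψ x) = 0 := by
      rw [polar_zero_iff' hx₁w, polar_add_right, he.2.2, add_zero]
    have hrf : polar Q (ψ e) (rf Q c (ψ x) (ψ x₁)) = 0 ↔ polar Q (ψ e) (ψ x) = 0 := by
      have h' : ∀ v, rf Q c (ψ x) v = v - (c * polar Q (ψ x) v) • ψ x := fun v => rfl
      have kk : ∀ c b : ZMod 3, c ≠ 0 → (b - c * (2 * c) * b = 0 ↔ b = 0) := by decide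
      rcases hx₁w with h | h <;>
        (rw [rf_right, h]
         simp only [polar_neg_right, polar_add_right, bself, hE.norm x hx, hxr, he.2.2, add_zero,
           mul_neg, neg_mul, sub_neg_eq_add]
         first
           | exact kk c _ hc
           | (rw [← neg_eq_zero, neg_add, neg_neg, ← sub_eq_add_neg]; exact kk c _ hc))
    rw [← polar_zero_iff' hx₂ψ] at hrf
    rw [h01] at t1
    rw [hrf] at t2
    rw [polar_zero_iff' hX₂ψ, rf_right, ← hγ] at t2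
    rw [hr', polar_sub_right, bsmul_right]
    have kz : ∀ c γ b b₁ : ZMod 3, c ≠ 0 → γ ≠ 0 → (b₁ = 0 ↔ b = 0) →
        (b₁ - c * γ * b = 0 ↔ b = 0) → -(c * γ) * b₁ - b = 0 := by decide
    exact kz c γ _ _ hc hγ0 (t1.trans t0.symm) (t2.trans t0.symm)
  have hcard : (slice E Q ψ u r).ncard ≤ (S ∩ nbr E a).ncard := by
    rw [hSa, Set.InjOn.ncard_image (hθ.injOn.mono Set.inter_subset_left), hT]
    exact slice_le hE hu hr0 hQr hr₀0 hQr₀ hur hur₀
  have heq := Set.eq_of_subset_of_ncard_le hsub hcard ((finite_points hE).subset fun e he => he.1)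
  refine ⟨r, hr0, hQr, hu' ▸ hur, ?_⟩
  rw [heq]
  ext e
  show e ∈ E ∧ _ ∧ _ ↔ e ∈ nbr E a ∧ _
  rw [mem_nbr_iff hE haE, ← hu', and_assoc]

end CfsgLib.ThreeTrans.Classif.FromRefl
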