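import Mathlib
import Cfsg.Agent.Lib.ThreeTrans.Classif.Counting
import Cfsg.Agent.Lib.ThreeTrans.Classif.FromRefl.Fibres
import Cfsg.Agent.Lib.ThreeTrans.Classif.FromRefl.Mu

/-!
A member not commuting with `d` and a member `a` commuting with both give an isotropic vector
orthogonal to that of `a`; two members give each one.
-/

set_option autoImplicit false
set_option maxHeartbeats 400000

namespace CfsgLib.ThreeTrans.Classif.FromRefl

open QuadraticMap
open CfsgLib.ThreeTrans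
open CfsgLib.ThreeTrans.LocalSymThree (nbr nbr_symm)

universe u v

/-- Two to one: a relation from a finite set to vectors up to sign, onto, with a fixed-point-free
pairing inside each fibre and no more members than vectors, has fibres of exactly two. -/
theorem two_of_card {α : Type*} {V : Type*} [AddCommGroup V] {F : Set α} {R : Set V}
    (hRne : ∀ r ∈ R, r ≠ -r) (flip : α → α)
    (hflip : ∀ y ∈ F, flip y ∈ F ∧ flip y ≠ y ∧ flip (flip y) = y) (lab : α → V → Prop)
    (hneg : ∀ y r, lab y r → lab y (-r))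
    (huniq : ∀ y ∈ F, ∀ r s, lab y r → lab y s → s = r ∨ s = -r)
    (hlabflip : ∀ y ∈ F, ∀ r, lab y r → lab (flip y) r)
    (hsurj : ∀ r ∈ R, ∃ y ∈ F, lab y r) (hF : F.Finite) (hcard : F.ncard ≤ R.ncard)
    {y z : α} (hy : y ∈ F) (hz : z ∈ F) {r : V} (hr : r ∈ R) (hyr : lab y r) (hzr : lab z r) :
    z = y ∨ z = flip y := by
  classical
  have : Nonempty α := ⟨y⟩
  let pick : Set α → α := fun A => Classical.epsilon (fun w => w ∈ A)
  let cls : V → Set α := fun r => {w | w ∈ F ∧ lab w r}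
  have hcls : ∀ r, cls (-r) = cls r := fun r => Set.ext fun w =>
    and_congr_right fun _ => ⟨fun h => neg_neg r ▸ hneg _ _ h, hneg _ _⟩
  obtain ⟨sel, hsel'⟩ : ∃ sel : V → α, sel = fun r => pick (cls r) := ⟨_, rfl⟩
  have hsel : ∀ r ∈ R, sel r ∈ F ∧ lab (sel r) r := fun r hr => by
    rw [hsel']; exact Classical.epsilon_spec (p := fun w => w ∈ cls r) (hsurj r hr)
  have hselneg : ∀ r, sel (-r) = sel r := fun r => by simp only [hsel', hcls]
  let val : α → V := fun w => Classical.epsilon (lab w)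
  have hval : ∀ w r, lab w r → lab w (val w) := fun w r h => Classical.epsilon_spec ⟨r, h⟩
  let T : V → α := fun r => if r = val (sel r) then sel r else flip (sel r)
  have hT : ∀ r ∈ R, T r ∈ F ∧ lab (T r) r := by
    intro r hr
    obtain ⟨h1, h2⟩ := hsel r hr
    simp only [T]
    split_ifs
    exacts [⟨h1, h2⟩, ⟨(hflip _ h1).1, hlabflip _ h1 _ h2⟩]
  have hTinj : Set.InjOn T R := by
    intro r hr s hs e
    obtain ⟨h1, h2⟩ := hT r hr
    obtain ⟨-, g2⟩ := hT s hs
    rw [← e] at g2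
    rcases huniq _ h1 _ _ h2 g2 with rfl | rfl
    · rfl
    exfalso
    obtain ⟨w1, w2⟩ := hsel r hr
    have hv := huniq _ w1 _ _ w2 (hval _ _ w2)
    simp only [T, hselneg] at e
    rcases hv with hv | hv
    · rw [if_pos hv.symm, hv, if_neg (fun k => hRne r hr k.symm)] at e
      exact (hflip _ w1).2.1 e.symm
    · rw [if_neg (fun k : r = val (sel r) => hRne r hr (k.trans hv)), if_pos hv.symm] at e
      exact (hflip _ w1).2.1 e
  have himg : T '' R = F := Set.eq_of_subset_of_ncard_le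
    (by rintro _ ⟨r, hr, rfl⟩; exact (hT r hr).1) (by rw [hTinj.ncard_image]; exact hcard) hF
  have hover : ∀ w ∈ F, lab w r → w = sel r ∨ w = flip (sel r) := by
    intro w hw hwr
    obtain ⟨s, hs, rfl⟩ := himg.ge hw
    have hsr : sel s = sel r := by
      rcases huniq _ hw _ _ hwr (hT s hs).2 with e | e
      · rw [e]
      · rw [e, hselneg]
    simp only [T, hsr]
    split_ifs
    exacts [Or.inl rfl, Or.inr rfl]
  have hs := (hflip _ (hsel r hr).1).2.2
  rcases hover y hy hyr with e | e <;> rcases hover z hz hzr with e' | e'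
  · exact Or.inl (e'.trans e.symm)
  · exact Or.inr (e'.trans (congrArg flip e.symm))
  · exact Or.inr (e'.trans (hs.symm.trans (congrArg flip e.symm)))
  · exact Or.inl (e'.trans e.symm)

variable {G : Type u} [Group G] {D : Set G} {d : G} {Y : Type v} [Group Y] {E : Set Y}
  {f : G → Y} {n : ℕ} {Q : QuadraticForm (ZMod 3) (Fin n → ZMod 3)} {c : ZMod 3}
  {ψ : Y → Fin n → ZMod 3}

local notation "V" => Fin n → ZMod 3

/-- The class one level down is one of reflections. -/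
structure Frame (D : Set G) (d : G) (f : G → Y) (E : Set Y)
    (Q : QuadraticForm (ZMod 3) (Fin n → ZMod 3)) (c : ZMod 3) (ψ : Y → Fin n → ZMod 3) : Prop where
  good : Good D
  chart : Chart D d f E
  pts : ReflPts E Q c ψ
  five : 5 ≤ n

/-- At `a`, the members commuting with `d`, `a` and `y` are those orthogonal to `r`. -/
def Loc (D : Set G) (d : G) (f : G → Y) (Q : QuadraticForm (ZMod 3) V) (ψ : Y → V) (y a : G)
    (r : V) : Prop :=
  y ∈ far D d ∧ a ∈ nbr D d ∧ Commute a y ∧ r ≠ 0 ∧ Q r = 0 ∧ polar Q (ψ (f a)) r = 0 ∧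
    ∀ b ∈ nbr D d, polar Q (ψ (f a)) (ψ (f b)) = 0 → (Commute b y ↔ polar Q (ψ (f b)) r = 0)

variable (L : Frame D d f E Q c ψ)
include L

theorem Frame.norm {a : G} (ha : a ∈ nbr D d) : Q (ψ (f a)) = c :=
  L.pts.norm _ (L.chart.bij.mapsTo ha)

theorem Frame.vinj {a b : G} (ha : a ∈ nbr D d) (hb : b ∈ nbr D d)
    (h : ψ (f a) = ψ (f b) ∨ ψ (f a) = -ψ (f b)) : a = b :=
  L.chart.bij.injOn ha hb (L.pts.inj _ (L.chart.bij.mapsTo ha) _ (L.chart.bij.mapsTo hb) h)

theorem Frame.vsurj {z : V} (hz : Q z = c) :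
    ∃ a ∈ nbr D d, (ψ (f a) = z ∨ ψ (f a) = -z) ∧
      ∀ w, (polar Q (ψ (f a)) w = 0 ↔ polar Q z w = 0) := by
  obtain ⟨e, he, h, hw⟩ := exists_point L.pts hz
  obtain ⟨a, ha, rfl⟩ := L.chart.bij.surjOn he
  exact ⟨a, ha, h, hw⟩

theorem Frame.vcomm {a b : G} (ha : a ∈ nbr D d) (hb : b ∈ nbr D d) :
    Commute a b ↔ a = b ∨ polar Q (ψ (f a)) (ψ (f b)) = 0 := by
  rw [← L.chart.comm a ha b hb, L.pts.comm _ (L.chart.bij.mapsTo ha) _ (L.chart.bij.mapsTo hb)]
  exact or_congr ⟨fun h => L.chart.bij.injOn ha hb h, fun h => h ▸ rfl⟩ Iff.rfl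

theorem Frame.vconj {a b : G} (ha : a ∈ nbr D d) (hb : b ∈ nbr D d) :
    ψ (f (a * b * a)) = rf Q c (ψ (f a)) (ψ (f b)) ∨
      ψ (f (a * b * a)) = -rf Q c (ψ (f a)) (ψ (f b)) := by
  rw [L.chart.conj a ha b hb]
  exact conj_rf L.pts (L.chart.bij.mapsTo ha) (L.chart.bij.mapsTo hb)

theorem Frame.closed : ConjClosed D := L.good.set.hD.closed

omit L [Group Y] in
theorem Loc.neg {y a : G} {r : V} (h : Loc D d f Q ψ y a r) : Loc D d f Q ψ y a (-r) := by
  obtain ⟨h1, h2, h3, h4, h5, h6, h7⟩ := h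
  refine ⟨h1, h2, h3, neg_ne_zero.2 h4, by rw [QuadraticMap.map_neg, h5],
    by rw [polar_neg_right, h6, neg_zero], fun b hb hab => ?_⟩
  rw [polar_neg_right, neg_eq_zero]; exact h7 b hb hab

/-- The vector at `a` is determined up to sign. -/
theorem Frame.loc_uniq {y a : G} {r s : V} (hr : Loc D d f Q ψ y a r) (hs : Loc D d f Q ψ y a s) :
    s = r ∨ s = -r := by
  obtain ⟨-, ha, -, r0, rQ, har, hr⟩ := hr
  obtain ⟨-, -, -, s0, sQ, has, hs⟩ := hs
  have hu := L.norm ha
  have hc := L.pts.ne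
  have hperp : ∀ z, Q z = c → polar Q (ψ (f a)) z = 0 → polar Q z r = 0 → polar Q z s = 0 := by
    intro z hz haz hzr
    obtain ⟨b, hb, hbz, hw⟩ := L.vsurj hz
    have hab : polar Q (ψ (f a)) (ψ (f b)) = 0 := (polar_zero_iff' hbz).2 haz
    exact (hw s).1 ((hs b hb hab).1 ((hr b hb hab).2 ((hw r).2 hzr)))
  obtain ⟨x, hx, hax, hrx⟩ := exists_perp_one L.five L.pts.nondeg hc hu r0 har
  have hxr : polar Q x r = 0 := by rw [bcomm]; exact hrx
  have hxs := hperp x hx hax hxr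
  have hrs : polar Q r s = 0 := by
    have h1 := hperp (x + (1 : ZMod 3) • r) (by rw [q_trans rQ, hxr, hx]; ring)
      (by rw [b_trans_right, hax, har]; ring) (by rw [b_trans_left, hxr, b_iso rQ]; ring)
    rwa [b_trans_left, hxs, zero_add, one_mul] at h1
  by_contra hno
  push Not at hno
  obtain ⟨z, hz, haz, -, hrz, hsz⟩ := exists_norm_pairing L.pts.nondeg hc hu (v := 0) (Or.inl rfl)
    (bzero _) sQ har has (by rw [bcomm]; exact bzero r) (by rw [bcomm]; exact bzero s) hrs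
    (not_mem_line s0 hno.1 hno.2)
  have h1 := hperp z hz haz (by rw [bcomm]; exact hrz)
  rw [bcomm, hsz] at h1
  exact one_ne_zero h1

/-- Conjugation by a member commuting with `d`. -/
theorem Frame.loc_conj {y a e : G} {r : V} (he : e ∈ nbr D d) (h : Loc D d f Q ψ y a r) :
    Loc D d f Q ψ (e * y * e) (e * a * e) (rf Q c (ψ (f e)) r) := by
  have hs := L.closed.set
  have hc := L.pts.ne
  obtain ⟨hy, ha, hay, r0, rQ, har, hr⟩ := h
  have hv := L.norm he
  have cj : ∀ x z, Commute (e * x * e) (e * z * e) ↔ Commute x z := fun x z => by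
    have := commute_conj_iff e x z
    rwa [inv_eq hs he.1] at this
  refine ⟨⟨conj_mem_left L.closed he.1 hy.1, fun h => hy.2 ?_⟩, nbr_closed L.closed he ha,
    (cj a y).2 hay, ?_, by rw [q_rf hc hv, rQ], ?_, fun b hb hab => ?_⟩
  · have e1 : e * d * e = d := by rw [← he.2.2.eq, mul_assoc, mul_self hs he.1, mul_one]
    nth_rw 1 [← e1] at h
    exact (cj d y).1 h
  · intro h0
    exact r0 (by rw [← rf_rf hc hv r, h0, rf, bzero, mul_zero, zero_smul, sub_zero])
  · rw [polar_zero_iff (L.vconj he ha), rf_symm, rf_rf hc hv]; exact har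
  · rw [polar_zero_iff (L.vconj he ha), rf_symm, ← polar_zero_iff' (L.vconj he hb)] at hab
    rw [← rf_symm, ← polar_zero_iff (L.vconj he hb), ← hr _ (nbr_closed L.closed he hb) hab,
      ← cj (e * b * e) y,
      show e * (e * b * e) * e = b by simp [mul_assoc, mul_self hs he.1, mul_self_mul hs he.1]]

theorem Frame.loc_flip {y a : G} {r : V} (h : Loc D d f Q ψ y a r) :
    Loc D d f Q ψ (d * y * d) a r := by
  have hs := L.closed.set
  have hd := L.chart.mem
  obtain ⟨hy, ha, hay, r0, rQ, har, hr⟩ := h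
  have cf : ∀ b ∈ nbr D d, (Commute b (d * y * d) ↔ Commute b y) := fun b hb => by
    have := commute_conj_iff d b y
    rwa [inv_eq hs hd, show d * b * d = b by
      rw [hb.2.2.eq, mul_assoc, mul_self hs hd, mul_one]] at this
  exact ⟨⟨conj_mem_left L.closed hd hy.1, (not_commute_conj L.closed hd hy.1 hy.2).1⟩, ha,
    (cf a ha).2 hay, r0, rQ, har, fun b hb hab => (cf b hb).trans (hr b hb hab)⟩

variable [Finite G]

theorem Frame.exists_loc {y a : G} (hy : y ∈ far D d) (ha : a ∈ nbr D d) (hay : Commute a y) :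
    ∃ r, Loc D d f Q ψ y a r := by
  obtain ⟨N, k, l, m, P, hm, -⟩ := exists_params L.good
  have C := L.chart
  have hS := muData L.good P hm C hy.1 hy.2
  have hcl : ∀ p ∈ E, ∀ q ∈ E, p * q * p ∈ E := by
    intro p hp q hq
    obtain ⟨p', hp', rfl⟩ := C.bij.surjOn hp
    obtain ⟨q', hq', rfl⟩ := C.bij.surjOn hq
    rw [← C.conj p' hp' q' hq']
    exact C.bij.mapsTo (nbr_closed L.closed hp' hq')
  have hmem : ∀ b ∈ nbr D d, (f b ∈ f '' (nbr D d ∩ nbr D y) ↔ Commute b y) := by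
    intro b hb
    rw [C.bij.injOn.mem_image_iff Set.inter_subset_left hb]
    exact ⟨fun h => h.2.2.2.symm, fun h => ⟨hb, hb.1, fun e => hy.2 (e ▸ hb.2.2), h.symm⟩⟩
  obtain ⟨r, r0, rQ, har, h⟩ := exists_local hcl L.pts L.five hS ((hmem a ha).2 hay)
  refine ⟨r, hy, ha, hay, r0, rQ, har, fun b hb hab => ?_⟩
  have hn : f b ∈ nbr E (f a) :=
    (mem_nbr_iff L.pts (C.bij.mapsTo ha)).2 ⟨C.bij.mapsTo hb, hab⟩
  rw [← hmem b hb]
  exact ⟨fun h' => ((Set.ext_iff.1 h (f b)).1 ⟨h', hn⟩).2,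
    fun h' => ((Set.ext_iff.1 h (f b)).2 ⟨hn, h'⟩).1⟩

/-- Every isotropic vector orthogonal to that of `a` is the vector of some member. -/
theorem Frame.loc_surj {a : G} (ha : a ∈ nbr D d) {s : V} (s0 : s ≠ 0) (sQ : Q s = 0)
    (has : polar Q (ψ (f a)) s = 0) : ∃ y, Loc D d f Q ψ y a s := by
  classical
  have hs := L.closed.set
  have hc := L.pts.ne
  obtain ⟨c₀, hc₀, hdc⟩ := exists_not_commute L.good.set.hD.gen L.closed L.good.set.hD.class_eq
    L.good.set.hD.two L.chart.mem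
  obtain ⟨y, r, hy⟩ : ∃ y r, Loc D d f Q ψ y a r := by
    by_contra! hno
    obtain ⟨N, k, l, m, P, hm, -⟩ := exists_params L.good
    have hd := L.chart.mem
    have hpos : 0 < (far D d).ncard := (Set.ncard_pos (Set.toFinite _)).2 ⟨c₀, hc₀, hdc⟩
    have hmul := P.mul_far hd
    have h0 : k - 1 - l = 0 := by
      have hsub : nbr D a ⊆ {d} ∪ (nbr D d ∩ nbr D a) := by
        intro z hz
        by_cases hdz : Commute d z
        · by_cases e : z = d
          · exact Or.inl e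
          · exact Or.inr ⟨⟨hz.1, e, hdz⟩, hz⟩
        · obtain ⟨r, hr⟩ := L.exists_loc ⟨hz.1, hdz⟩ ha hz.2.2
          exact absurd hr (hno z r)
      have h1 := (Set.ncard_le_ncard hsub (Set.toFinite _)).trans (Set.ncard_union_le _ _)
      rw [Set.ncard_singleton, P.deg a ha.1, P.lam d hd a ha] at h1
      omega
    rw [h0, mul_zero] at hmul
    exact absurd hmul (Nat.mul_pos hpos hm).ne'
  have step : ∀ {y r}, Loc D d f Q ψ y a r → ∀ {t : V}, Q t = 0 → polar Q (ψ (f a)) t = 0 →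
      polar Q r t ≠ 0 → ∃ z, Loc D d f Q ψ z a t := by
    intro y r hl t tQ hat h
    have har : polar Q (ψ (f a)) r = 0 := hl.2.2.2.2.2.1
    suffices key : ∀ t' : V, Q t' = 0 → polar Q (ψ (f a)) t' = 0 → polar Q r t' = -c →
        ∃ z, Loc D d f Q ψ z a t' by
      have dich : ∀ c b : ZMod 3, c ≠ 0 → b ≠ 0 → b = -c ∨ -b = -c := by decide
      rcases dich c _ hc h with e | e
      · exact key t tQ hat e
      · obtain ⟨z, hz⟩ := key (-t) (by rw [QuadraticMap.map_neg, tQ])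
          (by rw [polar_neg_right, hat, neg_zero]) (by rw [polar_neg_right, e])
        exact ⟨z, neg_neg t ▸ hz.neg⟩
    intro t' tQ' hat' e
    obtain ⟨hv, -, hrf⟩ := diff_norm hc hl.2.2.2.2.1 tQ' e
    obtain ⟨g, hg, hgv, hw⟩ := L.vsurj hv
    have hga : polar Q (ψ (f g)) (ψ (f a)) = 0 := (hw _).2 (by
      rw [polar_sub_left, bcomm r, har, bcomm t', hat', sub_zero])
    have e1 : g * a * g = a := by
      rw [((L.vcomm hg ha).2 (Or.inr hga)).eq, mul_assoc, mul_self hs hg.1, mul_one]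
    have e2 : rf Q c (ψ (f g)) r = t' := by
      rcases hgv with k | k <;> rw [k]
      · exact hrf
      · rw [rf_neg]; exact hrf
    have hz := L.loc_conj hg hl
    rw [e1, e2] at hz
    exact ⟨_, hz⟩
  obtain ⟨-, -, -, r0, rQ, har, -⟩ := id hy
  by_cases h : polar Q r s = 0
  swap
  · exact step hy sQ has h
  by_cases hm : s ∈ Submodule.span (ZMod 3) ({r} : Set V)
  · rcases of_mem_line s0 hm with e | e <;> rw [e]
    exacts [⟨y, hy⟩, ⟨y, hy.neg⟩]
  obtain ⟨x, xQ, hax, hrx, hsx⟩ := exists_iso_perp L.pts.nondeg hc (u := ψ (f a))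
    (Or.inr (L.norm ha)) rQ har has h (not_mem_symm r0 hm) hm
  obtain ⟨z, hz⟩ := step hy xQ hax hrx
  exact step hz sQ has (by rwa [bcomm])

/-- Two members at `a` with the same vector differ at most by conjugation with `d`. -/
theorem Frame.loc_two {y z a : G} {r : V} (hy : Loc D d f Q ψ y a r) (hz : Loc D d f Q ψ z a r) :
    z = y ∨ z = d * y * d := by
  classical
  have hs := L.closed.set
  have hd := L.chart.mem
  have hc := L.pts.ne
  obtain ⟨N, k, l, m, P, -, -⟩ := exists_params L.good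
  have ha : a ∈ nbr D d := hy.2.1
  set u := ψ (f a) with hu
  obtain ⟨R, hR⟩ : ∃ R : Set V, R = {r | r ≠ 0 ∧ Q r = 0 ∧ polar Q u r = 0} := ⟨_, rfl⟩
  obtain ⟨F, hF⟩ : ∃ F : Set G, F = {w | w ∈ far D d ∧ Commute a w} := ⟨_, rfl⟩
  -- the members not commuting with `a` go injectively to the vectors
  have hFR : F.ncard ≤ R.ncard := by
    have hFc : F.ncard ≤ k - 1 - l := by
      have hsub : F ⊆ nbr D a \ ({d} ∪ (nbr D d ∩ nbr D a)) := by
        intro w hw
        rw [hF] at hw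
        refine ⟨⟨hw.1.1, fun e => hw.1.2 (e ▸ ha.2.2), hw.2⟩, ?_⟩
        rintro (e | h)
        exacts [hw.1.2 (e ▸ Commute.refl d), hw.1.2 h.1.2.2]
      refine (Set.ncard_le_ncard hsub (Set.toFinite _)).trans (le_of_eq ?_)
      rw [Set.ncard_sdiff ?_ (Set.toFinite _), Set.ncard_union_eq, Set.ncard_singleton, P.deg a ha.1,
        P.lam d hd a ha]
      · omega
      · rw [Set.disjoint_singleton_left]; exact fun h => h.1.2.1 rfl
      · rintro w (rfl | h)
        exacts [nbr_symm hd ha, h.2]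
    have hΩ : (nbr D d \ ({a} ∪ (nbr D d ∩ nbr D a))).ncard = k - 1 - l := by
      rw [Set.ncard_sdiff ?_ (Set.toFinite _), Set.ncard_union_eq, Set.ncard_singleton, P.deg d hd,
        P.lam d hd a ha]
      · omega
      · rw [Set.disjoint_singleton_left]; exact fun h => h.2.2.1 rfl
      · rintro w (rfl | h)
        exacts [ha, h.1]
    refine hFc.trans (hΩ.ge.trans ?_)
    have hdata : ∀ x ∈ nbr D d \ ({a} ∪ (nbr D d ∩ nbr D a)),
        x ∈ nbr D d ∧ x ≠ a ∧ polar Q u (ψ (f x)) ≠ 0 := fun x hx => by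
      have hne : x ≠ a := fun e => hx.2 (Or.inl e)
      refine ⟨hx.1, hne, fun h => hx.2 (Or.inr ⟨hx.1, hx.1.1, hne, ?_⟩)⟩
      exact (L.vcomm ha hx.1).2 (Or.inr h)
    refine Set.ncard_le_ncard_of_injOn
      (fun x => (-(c * polar Q u (ψ (f x)))) • ψ (f x) - u) (fun x hx => ?_) ?_ (Set.toFinite _)
    · obtain ⟨h1, hne, hβ⟩ := hdata x hx
      have k3 : ∀ c γ : ZMod 3, c ≠ 0 → γ ≠ 0 → -(c * γ) * γ - 2 * c = 0 ∧
          c * (-(c * γ) * -(c * γ)) + c - -(c * γ) * γ = 0 := by decide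
      rw [hR]
      refine ⟨fun h0 => hne (L.vinj ha h1 ?_).symm, ?_, ?_⟩
      · exact mem_line _ (sub_eq_zero.1 h0).symm (ne_zero_of_norm hc (L.norm ha))
      · rw [qsub, qsmul, bsmul_left, bcomm (ψ (f x)) u, L.norm h1, L.norm ha]
        linear_combination (k3 c _ hc hβ).2
      · rw [polar_sub_right, bsmul_right, bself, L.norm ha]
        exact (k3 c _ hc hβ).1
    · intro x hx x' hx' e
      obtain ⟨h1, -, hβ⟩ := hdata x hx
      obtain ⟨g1, -, -⟩ := hdata x' hx'
      have e1 := sub_left_injective e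
      have e2 : ψ (f x) = ((-(c * polar Q u (ψ (f x))))⁻¹ * (-(c * polar Q u (ψ (f x'))))) •
          ψ (f x') := by
        rw [← smul_smul, ← e1, smul_smul, inv_mul_cancel₀ (neg_ne_zero.2 (mul_ne_zero hc hβ)),
          one_smul]
      exact L.vinj h1 g1 (mem_line _ e2 (ne_zero_of_norm hc (L.norm h1)))
  have kn : ∀ x : ZMod 3, x = -x → x = 0 := by decide
  refine two_of_card (F := F) (R := R) (flip := fun w => d * w * d)
    (lab := fun w r => Loc D d f Q ψ w a r) ?_ ?_ (fun w r h => h.neg) ?_ ?_ ?_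
    (Set.toFinite _) hFR ?_ ?_ (r := r) ?_ hy hz
  · intro t ht e
    rw [hR] at ht
    exact ht.1 (funext fun i => kn _ (congrFun e i))
  · intro w hw
    rw [hF] at hw ⊢
    refine ⟨⟨⟨conj_mem_left L.closed hd hw.1.1, (not_commute_conj L.closed hd hw.1.1 hw.1.2).1⟩, ?_⟩,
      fun e => (not_commute_conj L.closed hd hw.1.1 hw.1.2).2 (by rw [e]), ?_⟩
    · exact (ha.2.2.symm.mul_right hw.2).mul_right ha.2.2.symm
    · simp [mul_assoc, mul_self hs hd, mul_self_mul hs hd]
  · intro w _ r s h1 h2; exact L.loc_uniq h1 h2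
  · intro w _ r h; exact L.loc_flip h
  · intro t ht
    rw [hR] at ht
    obtain ⟨w, hw⟩ := L.loc_surj ha ht.1 ht.2.1 ht.2.2
    exact ⟨w, by rw [hF]; exact ⟨hw.1, hw.2.2.1⟩, hw⟩
  · rw [hF]; exact ⟨hy.1, hy.2.2.1⟩
  · rw [hF]; exact ⟨hz.1, hz.2.2.1⟩
  · rw [hR]; exact ⟨hy.2.2.2.1, hy.2.2.2.2.1, hy.2.2.2.2.2.1⟩

end CfsgLib.ThreeTrans.Classif.FromRefl
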