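import Mathlib
import Cfsg.Agent.Lib.ThreeTrans.Classif.TowerStep
import Cfsg.Agent.Lib.ThreeTrans.Classif.FromRefl.Locate
import Cfsg.Agent.Lib.ThreeTrans.Classif.FromRefl.Extend

/-!
The members commuting with two non-commuting members are, one level down in a reflection class over
three elements, all the members orthogonal to one isotropic vector; so the class is one of reflections
one dimension higher.
-/

set_option autoImplicit false
set_option maxHeartbeats 400000

namespace CfsgLib.ThreeTrans.Classif.FromRefl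

open QuadraticMap
open CfsgLib.ThreeTrans
open CfsgLib.ThreeTrans.LocalSymThree (nbr nbr_symm)

universe u v

variable {G : Type u} [Group G] [Finite G] {D : Set G} {d : G} {Y : Type v} [Group Y] {E : Set Y}
  {f : G → Y} {n : ℕ} {Q : QuadraticForm (ZMod 3) (Fin n → ZMod 3)} {c : ZMod 3}
  {ψ : Y → Fin n → ZMod 3}

local notation "V" => Fin n → ZMod 3

variable (L : Frame D d f E Q c ψ)
include L

/-- Two commuting members see the same vector. -/
theorem Frame.loc_edge {y a b : G} {r s : V} (hr : Loc D d f Q ψ y a r) (hs : Loc D d f Q ψ y b s)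
    (hab : polar Q (ψ (f a)) (ψ (f b)) = 0) : s = r ∨ s = -r := by
  have hD := L.closed.set
  have hc := L.pts.ne
  obtain ⟨hy, ha, hay, r0, rQ, har, hra⟩ := id hr
  obtain ⟨-, hb, hby, s0, sQ, hbs, hsb⟩ := id hs
  obtain ⟨u, hu'⟩ : ∃ u, u = ψ (f a) := ⟨_, rfl⟩
  obtain ⟨v, hv'⟩ : ∃ v, v = ψ (f b) := ⟨_, rfl⟩
  have hu : Q u = c := hu' ▸ L.norm ha
  have hv : Q v = c := hv' ▸ L.norm hb
  rw [← hu'] at har
  rw [← hv'] at hbs
  rw [← hu', ← hv'] at hab
  have huv := hab
  have hbr : polar Q v r = 0 := hv' ▸ (hra b hb (by rw [← hu', ← hv']; exact huv)).1 hby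
  have has : polar Q u s = 0 := hu' ▸ (hsb a ha (by rw [← hu', ← hv', bcomm]; exact huv)).1 hay
  have key : ∀ z, Q z = c → polar Q u z = 0 → polar Q v z = 0 → polar Q z r = 0 →
      polar Q z s = 0 := by
    intro z hz huz hvz hzr
    obtain ⟨g, hg, hgz, hw⟩ := L.vsurj hz
    have h1 : Commute g y := (hra g hg (by rw [← hu', polar_zero_iff' hgz]; exact huz)).2 ((hw r).2 hzr)
    exact (hw s).1 ((hsb g hg (by rw [← hv', polar_zero_iff' hgz]; exact hvz)).1 h1)
  by_contra hno
  push Not at hno
  by_cases hrs : polar Q r s = 0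
  · obtain ⟨z, hz, huz, hvz, hrz, hsz⟩ := exists_norm_pairing L.pts.nondeg hc hu (Or.inr hv) huv sQ
      har has hbr hbs hrs (not_mem_line s0 hno.1 hno.2)
    have h1 := key z hz huz hvz (by rw [bcomm]; exact hrz)
    rw [bcomm, hsz] at h1
    exact one_ne_zero h1
  -- the member exchanging the two vectors
  obtain ⟨s', hs'Q, hs'e, hs'⟩ : ∃ s', Q s' = 0 ∧ (s' = s ∨ s' = -s) ∧ polar Q r s' = -c := by
    have dich : ∀ c b : ZMod 3, c ≠ 0 → b ≠ 0 → b = -c ∨ -b = -c := by decide
    rcases dich c _ hc hrs with e | e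
    · exact ⟨s, sQ, Or.inl rfl, e⟩
    · exact ⟨-s, by rw [QuadraticMap.map_neg, sQ], Or.inr rfl, by rw [polar_neg_right, e]⟩
  have hs'u : polar Q u s' = 0 := (polar_zero_iff' hs'e).2 has
  have hs'v : polar Q v s' = 0 := (polar_zero_iff' hs'e).2 hbs
  obtain ⟨h1, -, h3⟩ := diff_norm hc rQ hs'Q hs'
  obtain ⟨g, hg, hgv, hgw⟩ := L.vsurj h1
  have fixes : ∀ {x : G}, x ∈ nbr D d → polar Q (r - s') (ψ (f x)) = 0 → g * x * g = x :=
    fun {x} hx h => by
      rw [((L.vcomm hg hx).2 (Or.inr ((hgw _).2 h))).eq, mul_assoc, mul_self hD hg.1, mul_one]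
  have hga : g * a * g = a := fixes ha (by
    rw [← hu', polar_sub_left, bcomm r, har, bcomm s', hs'u, sub_zero])
  have hgb : g * b * g = b := fixes hb (by
    rw [← hv', polar_sub_left, bcomm r, hbr, bcomm s', hs'v, sub_zero])
  have hl1 := L.loc_conj hg hr
  have hl2 := L.loc_conj hg hs
  rw [hga] at hl1
  rw [hgb] at hl2
  have e2 : rf Q c (ψ (f g)) r = s' := by
    rcases hgv with k | k <;> rw [k]
    · exact h3
    · rw [rf_neg]; exact h3
  have e3 : rf Q c (ψ (f g)) s = r ∨ rf Q c (ψ (f g)) s = -r := by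
    have : rf Q c (ψ (f g)) s' = r := by rw [← e2, rf_rf hc (L.norm hg)]
    rcases hs'e with rfl | rfl
    · exact Or.inl this
    · exact Or.inr (by rw [rf_neg_arg] at this; rw [← this, neg_neg])
  rw [e2] at hl1
  have hl1' : Loc D d f Q ψ (g * y * g) a s := by
    rcases hs'e with e | e <;> rw [e] at hl1
    · exact hl1
    · exact neg_neg s ▸ hl1.neg
  have hl2' : Loc D d f Q ψ (g * y * g) b r := by
    rcases e3 with e | e <;> rw [e] at hl2
    · exact hl2
    · exact neg_neg r ▸ hl2.neg
  -- an auxiliary vector of norm `-c`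
  obtain ⟨w, hw, huw, hvw, hrw, hsw⟩ : ∃ w, Q w = -c ∧ polar Q u w = 0 ∧ polar Q v w = 0 ∧
      polar Q r w = 0 ∧ polar Q s w ≠ 0 := by
    obtain ⟨U, hU⟩ : ∃ U, U = Submodule.span (ZMod 3) ({u} : Set V) ⊔
        Submodule.span (ZMod 3) ({v} : Set V) ⊔ Submodule.span (ZMod 3) ({r} : Set V) := ⟨_, rfl⟩
    have mu : u ∈ U := hU ▸ Submodule.mem_sup_left (Submodule.mem_sup_left (Submodule.mem_span_singleton_self u))
    have mv : v ∈ U := hU ▸ Submodule.mem_sup_left (Submodule.mem_sup_right (Submodule.mem_span_singleton_self v))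
    have mr : r ∈ U := hU ▸ Submodule.mem_sup_right (Submodule.mem_span_singleton_self r)
    obtain ⟨e, he, heU⟩ : ∃ e, Q e ≠ 0 ∧ ∀ x ∈ U, polar Q x e = 0 := by
      by_contra! hall
      have iso : ∀ p ∈ LinearMap.BilinForm.orthogonal Q.polarBilin U, Q p = 0 := fun p hp => by
        by_contra h0
        obtain ⟨x, hx, hne⟩ := hall p h0
        exact hne (LinearMap.BilinForm.mem_orthogonal_iff.1 hp x hx)
      have hle : LinearMap.BilinForm.orthogonal Q.polarBilin U ≤
          Submodule.span (ZMod 3) ({r} : Set V) := by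
        intro x hx
        have hxU : x ∈ U := by
          rw [← LinearMap.BilinForm.orthogonal_orthogonal L.pts.nondeg
            (CfsgLib.Orth.polarBilin_isRefl L.pts.nondeg) U, LinearMap.BilinForm.mem_orthogonal_iff]
          intro z hz
          change polar Q z x = 0
          rw [polar, iso _ (Submodule.add_mem _ hz hx), iso _ hz, iso _ hx, sub_zero, sub_zero]
        have ho := LinearMap.BilinForm.mem_orthogonal_iff.1 hx
        have h1 : polar Q u x = 0 := ho u mu
        have h2 : polar Q v x = 0 := ho v mv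
        simp only [hU, Submodule.mem_sup, Submodule.mem_span_singleton] at hxU
        obtain ⟨_, ⟨_, ⟨α, rfl⟩, _, ⟨β, rfl⟩, rfl⟩, _, ⟨γ, rfl⟩, rfl⟩ := hxU
        simp only [polar_add_right, bsmul_right, huv, har, mul_zero, add_zero] at h1
        simp only [polar_add_right, bsmul_right, bcomm v u, huv, hbr, mul_zero, add_zero, zero_add] at h2
        rw [(mul_eq_zero.1 h1).resolve_right (bself_ne hc hu),
          (mul_eq_zero.1 h2).resolve_right (bself_ne hc hv), zero_smul, zero_smul, zero_add, zero_add]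
        exact Submodule.smul_mem _ _ (Submodule.mem_span_singleton_self r)
      have hf := Submodule.finrank_mono hle
      rw [finrank_span_singleton r0, LinearMap.BilinForm.finrank_orthogonal L.pts.nondeg,
        Module.finrank_fintype_fun_eq_card, Fintype.card_fin] at hf
      have a1 := Submodule.finrank_add_le_finrank_add_finrank
        (Submodule.span (ZMod 3) ({u} : Set V) ⊔ Submodule.span (ZMod 3) ({v} : Set V))
        (Submodule.span (ZMod 3) ({r} : Set V))
      have a2 := Submodule.finrank_add_le_finrank_add_finrank (Submodule.span (ZMod 3) ({u} : Set V))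
        (Submodule.span (ZMod 3) ({v} : Set V))
      rw [finrank_span_singleton r0, ← hU] at a1
      rw [finrank_span_singleton (ne_zero_of_norm hc hu), finrank_span_singleton (ne_zero_of_norm hc hv)] at a2
      have := L.five
      omega
    have hue := heU u mu
    have hve := heU v mv
    have hre := heU r mr
    have hne : Q e ≠ c := by
      intro h
      have hes := key e h hue hve (by rw [bcomm]; exact hre)
      have h2 := key (e + (1 : ZMod 3) • r) (by rw [q_trans rQ, bcomm e r, hre, h]; ring)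
        (by rw [b_trans_right, hue, har]; ring) (by rw [b_trans_right, hve, hbr]; ring)
        (by rw [b_trans_left, bcomm e r, hre, b_iso rQ]; ring)
      rw [b_trans_left, hes, zero_add, one_mul] at h2
      exact hrs h2
    have kq : ∀ c q : ZMod 3, c ≠ 0 → q ≠ 0 → q ≠ c → q = -c := by decide
    have hQe := kq c _ hc he hne
    have ks : ∀ b d : ZMod 3, d ≠ 0 → b + (1 - b) * d * d ≠ 0 := by decide
    refine ⟨e + ((1 - polar Q s e) * polar Q r s) • r, ?_, ?_, ?_, ?_, ?_⟩
    · rw [q_trans rQ, bcomm e r, hre, hQe]; ring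
    · rw [b_trans_right, hue, har]; ring
    · rw [b_trans_right, hve, hbr]; ring
    · rw [b_trans_right, hre, b_iso rQ]; ring
    · rw [b_trans_right, bcomm s r]; exact ks _ _ hrs
  -- exchanging the two members while fixing `r`
  have kc : ∀ c : ZMod 3, c ≠ 0 → c + c + -c = c := by decide
  have hP : Q (u + v + w) = c := by
    rw [qadd, qadd, hu, hv, hw, huv, polar_add_left, huw, hvw]; linear_combination kc c hc
  have hR : Q (u + v - w) = c := by
    rw [qsub, qadd, hu, hv, hw, huv, polar_add_left, huw, hvw]; linear_combination kc c hc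
  obtain ⟨p, hp, hpv, -⟩ := L.vsurj hP
  obtain ⟨q, hq, hqv, -⟩ := L.vsurj hR
  have hrf : ∀ {e : G} {z : V}, (ψ (f e) = z ∨ ψ (f e) = -z) → ∀ x, rf Q c (ψ (f e)) x = rf Q c z x := by
    intro e z h x
    rcases h with h | h <;> rw [h]
    rw [rf_neg]
  have k1 : c * (2 * c) = 2 := by
    have : ∀ c : ZMod 3, c ≠ 0 → c * (2 * c) = 2 := by decide
    exact this c hc
  have ku : rf Q c (u + v + w) (rf Q c (u + v - w) u) = -v := by
    have e1 : rf Q c (u + v - w) u = u - (2 : ZMod 3) • (u + v - w) := by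
      rw [rf, polar_sub_left, polar_add_left, bself, hu, bcomm v u, huv, bcomm w u, huw,
        add_zero, sub_zero, k1]
    have e2 : polar Q (u + v + w) (u - (2 : ZMod 3) • (u + v - w)) = 2 * c := by
      simp only [polar_sub_right, bsmul_right, polar_add_left, polar_add_right, bself, hu, hv, hw,
        bcomm v u, bcomm w u, bcomm w v, huv, huw, hvw, add_zero, zero_add, sub_zero, zero_sub]
      have : ∀ c : ZMod 3, 2 * c - (2 * (2 * c) + 2 * (2 * c) + 2 * -(2 * -c)) = 2 * c := by decide
      exact this c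
    rw [e1, rf, e2, k1]
    funext i
    have : ∀ a b d : ZMod 3, a - 2 * (a + b - d) - 2 * (a + b + d) = -b := by decide
    exact this _ _ _
  have kr : rf Q c (u + v + w) (rf Q c (u + v - w) r) = r := by
    have e : polar Q (u + v - w) r = 0 := by
      rw [polar_sub_left, polar_add_left, har, hbr, bcomm w r, hrw]; ring
    rw [rf_of_perp e, rf_of_perp]
    rw [polar_add_left, polar_add_left, har, hbr, bcomm w r, hrw]; ring
  have ks : rf Q c (u + v + w) (rf Q c (u + v - w) s) = s + (c * polar Q w s) • w := by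
    have e1 : rf Q c (u + v - w) s = s + (c * polar Q w s) • (u + v - w) := by
      rw [rf, polar_sub_left, polar_add_left, has, hbs]; module
    have e2 : polar Q (u + v + w) (s + (c * polar Q w s) • (u + v - w)) = polar Q w s := by
      simp only [polar_sub_right, bsmul_right, polar_add_left, polar_add_right, bself, hu, hv, hw,
        bcomm v u, bcomm w u, bcomm w v, huv, huw, hvw, has, hbs, add_zero, zero_add, sub_zero,
        zero_sub]
      have : ∀ c b : ZMod 3, b + (c * b * (2 * c) + c * b * (2 * c) + c * b * -(2 * -c)) = b := by decide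
      exact this c _
    rw [e1, rf, e2]
    funext i
    have : ∀ x t a b d : ZMod 3, x + t * (a + b - d) - t * (a + b + d) = x + t * d := by decide
    exact this _ _ _ _ _
  have hab' : p * (q * a * q) * p = b := by
    refine L.vinj (nbr_closed L.closed hp (nbr_closed L.closed hq ha)) hb ?_
    have e := ku
    rw [← hrf hpv, ← hrf hqv, hu', hv'] at e
    rcases L.vconj hp (nbr_closed L.closed hq ha) with h | h <;>
      rcases L.vconj hq ha with h' | h' <;> rw [h', ← hu'] at h <;>
      (try rw [rf_neg_arg] at h) <;> rw [hu', e] at h <;> simp [h]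
  have hl3 := L.loc_conj hp (L.loc_conj hq hr)
  rw [hab', hrf hpv, hrf hqv, kr] at hl3
  have hl4 := L.loc_conj hp (L.loc_conj hq hs)
  have hba : p * (q * b * q) * p = a := by
    rw [← hab']
    have e3 : ∀ x : G, p * (q * (p * (q * x * q) * p) * q) * p = (p * q) * (p * q) * x * ((q * p) * (q * p)) := by
      intro x; simp only [mul_assoc]
    have hpq : Commute p q := (L.vcomm hp hq).2 (Or.inr (by
      rw [polar_zero_iff hpv, polar_zero_iff' hqv]
      simp only [polar_sub_right, polar_add_left, polar_add_right, bself, hu, hv, hw,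
        bcomm v u, bcomm w u, bcomm w v, huv, huw, hvw, add_zero, zero_add]
      have : ∀ c : ZMod 3, 2 * c + 2 * c - 2 * -c = 0 := by decide
      exact this c))
    have e4 : p * q * (p * q) = 1 := by
      rw [← mul_assoc, mul_assoc p q p, ← hpq.eq, ← mul_assoc p p q, mul_self hD hp.1, one_mul,
        mul_self hD hq.1]
    rw [e3, e4, show q * p * (q * p) = 1 by rw [← hpq.eq, e4]]
    simp
  rw [hba, hrf hpv, hrf hqv, ks] at hl4
  -- both have the same vector at `b`
  have ne' : ∀ t : ZMod 3, w ≠ t • s := fun t e => by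
    rw [e, qsmul, sQ, mul_zero] at hw
    exact hc (neg_eq_zero.1 hw.symm)
  have hb0 : c * polar Q w s ≠ 0 := mul_ne_zero hc (by rw [bcomm]; exact hsw)
  have hdiff : ¬ (s + (c * polar Q w s) • w = s ∨ s + (c * polar Q w s) • w = -s) := by
    rintro (e | e)
    · exact ne' 0 (by rw [zero_smul]; exact (smul_eq_zero.1 (add_eq_left.1 e)).resolve_left hb0)
    · refine ne' ((c * polar Q w s)⁻¹ * -2) ?_
      have e5 : (c * polar Q w s) • w = (-2 : ZMod 3) • s := by
        rw [eq_sub_of_add_eq' e]; module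
      rw [← smul_smul, ← e5, smul_smul, inv_mul_cancel₀ hb0, one_smul]
  refine hdiff ?_
  rcases L.loc_two hl3 hl2' with e | e
  · rw [e] at hl1'
    rcases L.loc_uniq hl4 hl1' with k | k
    · exact Or.inl k.symm
    · exact Or.inr (neg_eq_iff_eq_neg.1 k.symm)
  · rw [e] at hl1'
    rcases L.loc_uniq (L.loc_flip hl4) hl1' with k | k
    · exact Or.inl k.symm
    · exact Or.inr (neg_eq_iff_eq_neg.1 k.symm)

/-- Commuting with `d` and `y` is orthogonality to one isotropic vector. -/
theorem Frame.exists_rho {y : G} (hy : y ∈ far D d) :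
    ∃ r, r ≠ 0 ∧ Q r = 0 ∧ ∀ a ∈ nbr D d, (Commute a y ↔ polar Q (ψ (f a)) r = 0) := by
  classical
  have hD := L.closed.set
  have hd := L.chart.mem
  have hc := L.pts.ne
  obtain ⟨N, k, l, m, P, hm, -⟩ := exists_params L.good
  have hSy : ∀ a ∈ nbr D d, Commute a y → a ∈ nbr D d ∩ nbr D y := fun a ha h =>
    ⟨ha, ha.1, fun e => hy.2 (e ▸ ha.2.2), h.symm⟩
  obtain ⟨a, ha, -, -, hay⟩ : ∃ a, a ∈ nbr D d ∧ a ∈ D ∧ a ≠ y ∧ Commute a y := by
    obtain ⟨a, ha⟩ := (Set.ncard_pos (Set.toFinite _)).1 (by rw [P.mu d hd y hy.1 hy.2]; exact hm :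
      0 < (nbr D d ∩ nbr D y).ncard)
    exact ⟨a, ha.1, ha.2.1, ha.2.2.1, ha.2.2.2.symm⟩
  obtain ⟨r, hr⟩ := L.exists_loc hy ha hay
  obtain ⟨-, -, -, r0, rQ, har, -⟩ := id hr
  refine ⟨r, r0, rQ, ?_⟩
  have step : ∀ {p x : G}, Loc D d f Q ψ y p r → x ∈ nbr D d →
      polar Q (ψ (f p)) (ψ (f x)) = 0 → polar Q (ψ (f x)) r = 0 → Loc D d f Q ψ y x r := by
    intro p x hp hx hpx hxr
    obtain ⟨t, ht⟩ := L.exists_loc hy hx ((hp.2.2.2.2.2.2 x hx hpx).2 hxr)
    rcases L.loc_edge hp ht hpx with rfl | rfl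
    · exact ht
    · exact neg_neg r ▸ ht.neg
  -- the members commuting with `y` are orthogonal to `r`
  have hsub : ∀ x ∈ nbr D d, Commute x y → polar Q (ψ (f x)) r = 0 := by
    intro x hx hxy
    by_contra hxr
    set t : ZMod 3 := -polar Q (ψ (f a)) (ψ (f x)) * polar Q (ψ (f x)) r
    obtain ⟨w, hw'⟩ : ∃ w, w = ψ (f a) + t • r := ⟨_, rfl⟩
    have hw : Q w = c := by rw [hw', q_trans rQ, har, L.norm ha]; ring
    obtain ⟨e, he, hev, hew⟩ := L.vsurj hw
    have her : polar Q (ψ (f e)) r = 0 := (hew r).2 (by rw [hw', b_trans_left, har, b_iso rQ]; ring)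
    have hex : polar Q (ψ (f e)) (ψ (f x)) = 0 := by
      refine (hew _).2 ?_
      rw [hw', b_trans_left, bcomm r (ψ (f x))]
      have key : ∀ b d : ZMod 3, d ≠ 0 → b + -b * d * d = 0 := by decide
      exact key _ _ hxr
    obtain ⟨z, hz, haz, hrz⟩ := exists_perp_one L.five L.pts.nondeg hc (L.norm ha) r0 har
    obtain ⟨g, hg, hgv, hgw⟩ := L.vsurj hz
    have hlg := step hr hg ((polar_zero_iff' hgv).2 haz) ((hgw r).2 (by rw [bcomm]; exact hrz))
    have hle := step hlg he ((hgw _).2 ((polar_zero_iff' hev).2 (by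
      rw [hw', b_trans_right, bcomm z (ψ (f a)), haz, bcomm z r, hrz]; ring))) her
    exact hxr ((hle.2.2.2.2.2.2 x hx hex).1 hxy)
  -- all of their vectors are `r`
  have hall : ∀ x ∈ nbr D d, Commute x y → Loc D d f Q ψ y x r := by
    intro x hx hxy
    obtain ⟨t, ht⟩ := L.exists_loc hy hx hxy
    obtain ⟨-, -, -, t0, tQ, hxt, hxl⟩ := id ht
    have hxr := hsub x hx hxy
    -- orthogonal members commuting with `y` lie below both vectors
    have key : ∀ z, Q z = c → polar Q (ψ (f x)) z = 0 → polar Q z t = 0 → polar Q z r = 0 := by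
      intro z hz hxz hzt
      obtain ⟨g, hg, hgz, hw⟩ := L.vsurj hz
      exact (hw r).1 (hsub g hg ((hxl g hg ((polar_zero_iff' hgz).2 hxz)).2 ((hw t).2 hzt)))
    obtain ⟨p, hp, hxp, htp⟩ := exists_perp_one L.five L.pts.nondeg hc (L.norm hx) t0 hxt
    have hpt : polar Q p t = 0 := by rw [bcomm]; exact htp
    have hpr := key p hp hxp hpt
    have htr : polar Q t r = 0 := by
      have h1 := key (p + (1 : ZMod 3) • t) (by rw [q_trans tQ, hpt, hp]; ring)
        (by rw [b_trans_right, hxp, hxt]; ring) (by rw [b_trans_left, hpt, b_iso tQ]; ring)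
      rwa [b_trans_left, hpr, zero_add, one_mul] at h1
    by_cases hm' : r = t ∨ r = -t
    · rcases hm' with e | e <;> rw [e]
      exacts [ht, ht.neg]
    rw [not_or] at hm'
    obtain ⟨z, hz, hxz, -, htz, hrz⟩ := exists_norm_pairing L.pts.nondeg hc (L.norm hx) (v := 0)
      (Or.inl rfl) (bzero _) rQ hxt hxr (by rw [bcomm]; exact bzero t) (by rw [bcomm]; exact bzero r)
      htr (not_mem_line r0 hm'.1 hm'.2)
    have h1 := key z hz hxz (by rw [bcomm]; exact htz)
    rw [bcomm, hrz] at h1
    exact absurd h1 one_ne_zero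
  refine fun x hx => ⟨hsub x hx, fun hxr => ?_⟩
  -- otherwise too many members would share the vector
  by_contra hxy
  have : Fintype G := Fintype.ofFinite G
  set S := (nbr D d).toFinset.filter (fun e => Commute e y) with hS
  set M := (nbr D d).toFinset.filter (fun e => ¬ Commute e y ∧ polar Q (ψ (f e)) r = 0) with hM
  have hSm : ∀ {e}, e ∈ S ↔ e ∈ nbr D d ∧ Commute e y := by
    intro e; rw [hS, Finset.mem_filter, Set.mem_toFinset]
  have hMm : ∀ {e}, e ∈ M ↔ e ∈ nbr D d ∧ ¬ Commute e y ∧ polar Q (ψ (f e)) r = 0 := by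
    intro e; rw [hM, Finset.mem_filter, Set.mem_toFinset]
  have hloc : ∀ g ∈ M, ∀ e ∈ S, g * e * g ∈ nbr D d ∧ polar Q (ψ (f (g * e * g))) r = 0 ∧
      Loc D d f Q ψ (g * y * g) (g * e * g) r := by
    intro g hg e he
    rw [hMm] at hg
    rw [hSm] at he
    have h := L.loc_conj hg.1 (hall e he.1 he.2)
    rw [rf_of_perp hg.2.2] at h
    exact ⟨h.2.1, h.2.2.2.2.2.1, h⟩
  have hM' : ∀ g ∈ M, ∀ e ∈ S, g * e * g ∈ M := by
    intro g hg e he
    obtain ⟨h1, h2, h3⟩ := hloc g hg e he
    refine hMm.2 ⟨h1, fun h => ?_, h2⟩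
    obtain ⟨hgn, hgy, -⟩ := hMm.1 hg
    rcases L.loc_two (hall _ h1 h) h3 with k | k
    · exact (not_commute_conj L.closed hgn.1 hy.1 hgy).2 (by rw [k])
    · -- two lines sharing two members coincide
      have hyd : y * (g * y * g) * y = g := by
        rw [braid hD hgn.1 hy.1 hgy]
        simp [mul_assoc, mul_self hD hy.1, mul_self_mul hD hy.1]
      rw [k, braid hD hd hy.1 hy.2] at hyd
      have : d = g := by
        rw [← hyd]; simp [mul_assoc, mul_self hD hy.1, mul_self_mul hD hy.1]
      exact hgn.2.1 this.symm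
  -- each member of the set is reached at most twice
  have hin : ∀ b ∈ M, (M.filter fun g => ∃ e ∈ S, g * e * g = b).card ≤ 2 := by
    intro b _
    by_cases hemp : (M.filter fun g => ∃ e ∈ S, g * e * g = b) = ∅
    · rw [hemp]; simp
    obtain ⟨g₀, hg₀⟩ := Finset.nonempty_iff_ne_empty.2 hemp
    rw [Finset.mem_filter] at hg₀
    obtain ⟨hg₀M, e₀, he₀, rfl⟩ := hg₀
    have hback : ∀ g ∈ M, g = y * (g * y * g) * y := by
      intro g hg
      obtain ⟨hgn, hgy, -⟩ := hMm.1 hg
      rw [braid hD hgn.1 hy.1 hgy]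
      simp [mul_assoc, mul_self hD hy.1, mul_self_mul hD hy.1]
    refine (Finset.card_le_card (t := {y * (g₀ * y * g₀) * y, y * (d * (g₀ * y * g₀) * d) * y})
      fun g hg => ?_).trans Finset.card_le_two
    rw [Finset.mem_filter] at hg
    obtain ⟨hgM, e, he, heq⟩ := hg
    have h1 := (hloc g hgM e he).2.2
    rw [heq] at h1
    rw [Finset.mem_insert, Finset.mem_singleton]
    rcases L.loc_two (hloc g₀ hg₀M e₀ he₀).2.2 h1 with k | k
    · exact Or.inl (by rw [← k]; exact hback g hgM)
    · exact Or.inr (by rw [← k]; exact hback g hgM)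
  have hout : ∀ g ∈ M, S.card ≤ (M.filter fun b => ∃ e ∈ S, g * e * g = b).card := by
    intro g hg
    refine Finset.card_le_card_of_injOn (fun e => g * e * g) (fun e he => ?_)
      fun e _ e' _ h => mul_left_cancel (mul_right_cancel h)
    exact Finset.mem_filter.2 ⟨hM' g hg e he, e, he, rfl⟩
  have hdc := Finset.sum_card_bipartiteAbove_eq_sum_card_bipartiteBelow
    (fun g b : G => ∃ e ∈ S, g * e * g = b) (s := M) (t := M)
  simp only [Finset.bipartiteAbove, Finset.bipartiteBelow] at hdc
  have h1 := (Finset.card_nsmul_le_sum M _ _ hout).trans (hdc.le.trans (Finset.sum_le_card_nsmul M _ _ hin))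
  have hMpos : 0 < M.card := Finset.card_pos.2 ⟨x, hMm.2 ⟨hx, hxy, hxr⟩⟩
  have hS2 : S.card ≤ 2 := by
    rw [smul_eq_mul, smul_eq_mul] at h1
    exact Nat.le_of_mul_le_mul_left h1 hMpos
  -- three members on a line commute with `y`
  obtain ⟨z, hz, haz, hrz⟩ := exists_perp_one L.five L.pts.nondeg hc (L.norm ha) r0 har
  have hzr : polar Q z r = 0 := by rw [bcomm]; exact hrz
  have hline : ∀ t : ZMod 3, ∃ e ∈ S, ψ (f e) = z + t • r ∨ ψ (f e) = -(z + t • r) := by
    intro t
    obtain ⟨e, he, hev, hew⟩ := L.vsurj (show Q (z + t • r) = c by rw [q_trans rQ, hzr, hz]; ring)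
    refine ⟨e, hSm.2 ⟨he, (hr.2.2.2.2.2.2 e he ?_).2 ((hew r).2 ?_)⟩, hev⟩
    · rw [polar_zero_iff' hev, b_trans_right, haz, har]; ring
    · rw [b_trans_left, hzr, b_iso rQ]; ring
  choose e heS heψ using hline
  have hinj : Function.Injective e := by
    intro t t' ht
    by_contra hne
    have h1 := heψ t
    have h2 := heψ t'
    rw [ht] at h1
    have hrep : z + t • r = z + t' • r ∨ z + t • r = -(z + t' • r) := by
      rcases h1 with a | a <;> rcases h2 with b | b
      · exact Or.inl (a.symm.trans b)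
      · exact Or.inr (a.symm.trans b)
      · exact Or.inr (by rw [← a.symm.trans b, neg_neg])
      · exact Or.inl (neg_injective (a.symm.trans b))
    rcases hrep with e | e
    · exact hne (smul_left_injective (ZMod 3) r0 (add_left_cancel e))
    · have h3 := congrArg (fun v => polar Q z v) e
      simp only [polar_neg_right, b_trans_right, hzr, mul_zero, add_zero] at h3
      have kn : ∀ x : ZMod 3, x = -x → x = 0 := by decide
      exact bself_ne hc hz (kn _ h3)
  have h3 : 3 ≤ S.card := by
    have := Finset.card_le_card_of_injOn (s := (Finset.univ : Finset (ZMod 3))) (t := S) e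
      (fun t _ => heS t) hinj.injOn
    simpa using this
  omega

omit L in
/-- A class with a chart onto reflection points is one of reflections one dimension higher. -/
theorem from_refl (hG : Good D) (C : Chart D d f E) (hE : ReflPts E Q c ψ) (hn : 5 ≤ n) :
    ∃ (Q' : QuadraticForm (ZMod 3) (Fin (n + 1) → ZMod 3)) (ψ' : G → Fin (n + 1) → ZMod 3),
      (QuadraticMap.polarBilin Q').Nondegenerate ∧
      Cfsg.polarGramDet ⇑Q' = Cfsg.polarGramDet ⇑Q * (2 * c) ∧ KindRefl D Q' c ∧ ReflPts D Q' c ψ' := by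
  have L : Frame D d f E Q c ψ := ⟨hG, C, hE, hn⟩
  have h := fun y (hy : y ∈ far D d) => L.exists_rho hy
  choose! ρ hρ using h
  exact (⟨hG, C, hE, hn, hρ⟩ : Based D d f E Q c ψ ρ).extend

omit [Group G] [Finite G] [Group Y] L in
/-- The lift of reflection points in every dimension at least five. -/
theorem lift_refl {n : ℕ} (hn : 5 ≤ n) : LiftRefl.{u, v} n :=
  fun hG C hE => from_refl hG C hE hn

end CfsgLib.ThreeTrans.Classif.FromRefl
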